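import Cfsg.Agent.Lib.Enum.Checker

/-!
# Coset enumeration proofs with two letters inverse to each other

The checker of `Lib.Enum.Checker`, where the letters 9 and 10 are inverse to each other and all
other letters are involutions.
-/

set_option autoImplicit false

namespace Cfsg.Agent.Fi23Mult

open Cfsg.Agent.Enum

/-- The inverse letter. -/
def inv9 (x : ℕ) : ℕ := bif Nat.beq x 9 then 10 else bif Nat.beq x 10 then 9 else x

theorem inv9_inv9 (x : ℕ) : inv9 (inv9 x) = x := by
  by_cases h9 : x = 9
  · subst h9; rfl
  by_cases h10 : x = 10
  · subst h10; rfl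
  have hb : ∀ n, x ≠ n → Nat.beq x n = false := fun n hn => by
    cases e : Nat.beq x n with
    | false => rfl
    | true => exact absurd (Nat.eq_of_beq_eq_true e) hn
  have e : inv9 x = x := by simp only [inv9, hb 9 h9, hb 10 h10, cond_false]
  rw [e, e]

/-- Inverse of a word. -/
def invWord (w : List ℕ) : List ℕ := w.reverse.map inv9

/-- Follow packed segments. -/
def walkI (d : Data) (k : ℕ) : ℕ → ℕ → ℕ → List ℕ → Option (ℕ × List ℕ)
  | 0, _, cur, w => some (cur, w)
  | n + 1, v, cur, w =>
    let s := v % 2 ^ 20
    let e := d.fact (s / 2)
    let a := bif Nat.beq (s % 2) 0 then Data.fa e else Data.fb e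
    let b := bif Nat.beq (s % 2) 0 then Data.fb e else Data.fa e
    let x := bif Nat.beq (s % 2) 0 then Data.fx e else inv9 (Data.fx e)
    bif Nat.blt (s / 2) k && Nat.beq a cur then
      match Data.eat x w with
      | some w' => walkI d k n (v / 2 ^ 20) b w'
      | none => none
    else none

/-- The conclusion of a step matches its fact. -/
def conclI (e u v : ℕ) : List ℕ → Bool
  | [] => Nat.beq (Data.fa e) u && Nat.beq (Data.fb e) v && Nat.beq (Data.fx e) 15
  | [y] => Nat.beq (Data.fa e) u && Nat.beq (Data.fb e) v && Nat.beq (inv9 (Data.fx e)) y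
  | _ => false

/-- Check the justification of fact `k` by relator `r` read at a node. -/
def chkWalkI (d : Data) (k : ℕ) (r : List ℕ) (st : ℕ) : Bool :=
  let s := (st / 2 ^ 16) % 2 ^ 16
  let nf := (st / 2 ^ 32) % 2 ^ 12
  let nb := (st / 2 ^ 44) % 2 ^ 12
  let v := st / 2 ^ 56
  match walkI d k nf v s r with
  | none => false
  | some (u, w) =>
    match walkI d k nb (v / 2 ^ (20 * nf)) s (invWord w) with
    | none => false
    | some (u', w') => conclI (d.fact k) u u' w'

/-- Check fact `k` against step `st`. -/
def chkStepI (d : Data) (k st : ℕ) : Bool :=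
  let t := st % 2 ^ 16
  bif Nat.beq t 0 then
    let e := d.fact k
    Nat.beq (d.node (Data.fb e)) (Data.fa e + 2 ^ 16 * Data.fx e) && Nat.blt (Data.fa e) (Data.fb e)
  else bif Nat.beq (t % 2) 1 then
    match d.rels[t / 2]? with
    | none => false
    | some r => chkWalkI d k r st
  else
    match d.subs[t / 2 - 1]? with
    | none => false
    | some r => Nat.beq ((st / 2 ^ 16) % 2 ^ 16) 0 && chkWalkI d k r st

/-- Check consecutive steps. -/
def chkStepsI (d : Data) : ℕ → List ℕ → Bool
  | _, [] => true
  | k, st :: l => chkStepI d k st && chkStepsI d (k + 1) l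

/-- Check that a word leads from node zero back to it. -/
def chkGoal (d : Data) (k : ℕ) (goal : List ℕ) (n v : ℕ) : Bool :=
  match walkI d k n v 0 goal with
  | some (0, []) => true
  | _ => false

section Sound

variable {G α : Type*} [Group G] [MulAction G α] (g : ℕ → G)

/-- The facts before `k` hold. -/
def Upto (d : Data) (base : α) (k : ℕ) : Prop :=
  ∀ f, f < k → Data.Holds g (Data.points g d base) (d.fact f)

variable (hg : ∀ x, g (inv9 x) * g x = 1)
include hg

theorem act_invWord (w : List ℕ) (q : α) : Data.act g (invWord w) (Data.act g w q) = q := by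
  induction w generalizing q with
  | nil => rfl
  | cons x w ih =>
    rw [invWord, List.reverse_cons, List.map_append, List.map_singleton, Data.act_append]
    show g (inv9 x) • Data.act g (invWord w) (Data.act g w (g x • q)) = q
    rw [ih, smul_smul, hg, one_smul]

theorem walkI_spec (h15 : g 15 = 1) (d : Data) (P : ℕ → α) (k : ℕ)
    (hk : ∀ f, f < k → Data.Holds g P (d.fact f)) :
    ∀ (n v cur : ℕ) (w : List ℕ) (u : ℕ) (w' : List ℕ), walkI d k n v cur w = some (u, w') →
      Data.act g w (P cur) = Data.act g w' (P u) := by
  intro n
  induction n with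
  | zero =>
    intro v cur w u w' h
    simp only [walkI, Option.some.injEq, Prod.mk.injEq] at h
    rw [h.1, h.2]
  | succ n ih =>
    intro v cur w u w' h
    simp only [walkI] at h
    generalize hs : v % 2 ^ 20 = s at h
    generalize he : d.fact (s / 2) = e at h
    generalize hc : (Nat.blt (s / 2) k &&
      Nat.beq (bif Nat.beq (s % 2) 0 then Data.fa e else Data.fb e) cur) = c at h
    cases c with
    | false => simp at h
    | true =>
      simp only [Bool.and_eq_true] at hc
      have hlt : s / 2 < k := by
        have := hc.1
        simp only [Nat.blt, Nat.ble_eq] at this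
        omega
      have hh := hk _ hlt
      rw [he, Data.Holds] at hh
      have ha := Nat.eq_of_beq_eq_true hc.2
      generalize hx : (bif Nat.beq (s % 2) 0 then Data.fx e else inv9 (Data.fx e)) = x at h
      have hedge : g x • P cur = P (bif Nat.beq (s % 2) 0 then Data.fb e else Data.fa e) := by
        rw [← ha, ← hx]
        cases Nat.beq (s % 2) 0 with
        | true => simpa using hh
        | false => simp only [cond_false]; rw [← hh, smul_smul, hg, one_smul]
      simp only [cond_true] at h
      cases hw : Data.eat x w with
      | none => rw [hw] at h; simp at h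
      | some w2 =>
        rw [hw] at h
        simp only at h
        rw [← ih _ _ _ _ _ h, ← hedge]
        cases w with
        | nil =>
          simp only [Data.eat] at hw
          cases hx : Nat.beq x 15 with
          | false => rw [hx] at hw; simp at hw
          | true =>
            rw [hx] at hw
            simp only [cond_true, Option.some.injEq] at hw
            rw [← hw, Nat.eq_of_beq_eq_true hx, h15, one_smul]
        | cons y w =>
          simp only [Data.eat] at hw
          cases hx : Nat.beq x 15 with
          | true =>
            rw [hx] at hw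
            simp only [cond_true, Option.some.injEq] at hw
            rw [← hw, Nat.eq_of_beq_eq_true hx, h15, one_smul]
          | false =>
            rw [hx] at hw
            simp only [cond_false] at hw
            cases hy : Nat.beq x y with
            | false => rw [hy] at hw; simp at hw
            | true =>
              rw [hy] at hw
              simp only [cond_true, Option.some.injEq] at hw
              rw [← hw, Nat.eq_of_beq_eq_true hy]
              rfl

theorem chkStepI_sound (h15 : g 15 = 1) (d : Data) (base : α)
    (hrel : ∀ r ∈ d.rels, ∀ q : α, Data.act g r q = q)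
    (hsub : ∀ r ∈ d.subs, Data.act g r base = base)
    (k st : ℕ) (hk : Upto g d base k) (h : chkStepI d k st = true) :
    Data.Holds g (Data.points g d base) (d.fact k) := by
  have main : ∀ r, (∀ s, s = (st / 2 ^ 16) % 2 ^ 16 →
        Data.act g r (Data.points g d base s) = Data.points g d base s) →
      chkWalkI d k r st = true → Data.Holds g (Data.points g d base) (d.fact k) := by
    intro r hfix h
    simp only [chkWalkI] at h
    generalize hs : (st / 2 ^ 16) % 2 ^ 16 = s at h
    cases hf : walkI d k ((st / 2 ^ 32) % 2 ^ 12) (st / 2 ^ 56) s r with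
    | none => rw [hf] at h; simp at h
    | some uw =>
      obtain ⟨u, w⟩ := uw
      rw [hf] at h
      simp only at h
      cases hb : walkI d k ((st / 2 ^ 44) % 2 ^ 12)
          (st / 2 ^ 56 / 2 ^ (20 * ((st / 2 ^ 32) % 2 ^ 12))) s (invWord w) with
      | none => rw [hb] at h; simp at h
      | some uw' =>
        obtain ⟨v, w'⟩ := uw'
        rw [hb] at h
        simp only at h
        have e1 := walkI_spec g hg h15 d _ k hk _ _ _ _ _ _ hf
        have e2 := walkI_spec g hg h15 d _ k hk _ _ _ _ _ _ hb
        rw [hfix s hs.symm] at e1
        rw [e1, act_invWord g hg] at e2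
        match w', e2, h with
        | [], e2, h =>
          simp only [conclI, Bool.and_eq_true] at h
          rw [Data.Holds, Nat.eq_of_beq_eq_true h.1.1, Nat.eq_of_beq_eq_true h.1.2,
            Nat.eq_of_beq_eq_true h.2, h15, one_smul]
          exact e2
        | [y], e2, h =>
          simp only [conclI, Bool.and_eq_true] at h
          rw [Data.Holds, Nat.eq_of_beq_eq_true h.1.1, Nat.eq_of_beq_eq_true h.1.2, e2]
          simp only [Data.act]
          have e3 := Nat.eq_of_beq_eq_true h.2
          rw [← e3, smul_smul]
          have e4 := hg (inv9 (Data.fx (d.fact k)))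
          rw [inv9_inv9] at e4
          rw [e4, one_smul]
        | _ :: _ :: _, _, h => simp [conclI] at h
  simp only [chkStepI] at h
  cases ht : Nat.beq (st % 2 ^ 16) 0 with
  | true =>
    rw [ht] at h
    simp only [cond_true, Bool.and_eq_true] at h
    have h1 := Nat.eq_of_beq_eq_true h.1
    have h2 : Data.fa (d.fact k) < Data.fb (d.fact k) := by
      have := h.2
      simp only [Nat.blt, Nat.ble_eq] at this
      omega
    rw [Data.Holds]
    conv_rhs => rw [Data.points_eq]
    have e1 : Data.fa (d.node (Data.fb (d.fact k))) = Data.fa (d.fact k) := by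
      rw [h1]; simp only [Data.fa]; omega
    have e2 : d.node (Data.fb (d.fact k)) / 2 ^ 16 = Data.fx (d.fact k) := by
      rw [h1]; simp only [Data.fa]; omega
    rw [e1, if_pos ⟨h2, by omega⟩, e2]
  | false =>
    rw [ht] at h
    simp only [cond_false] at h
    cases ho : Nat.beq (st % 2 ^ 16 % 2) 1 with
    | true =>
      rw [ho] at h
      simp only [cond_true] at h
      cases hr : d.rels[st % 2 ^ 16 / 2]? with
      | none => rw [hr] at h; simp at h
      | some r =>
        rw [hr] at h
        exact main r (fun s _ => hrel r (List.mem_of_getElem? hr) _) h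
    | false =>
      rw [ho] at h
      simp only [cond_false] at h
      cases hr : d.subs[st % 2 ^ 16 / 2 - 1]? with
      | none => rw [hr] at h; simp at h
      | some r =>
        rw [hr] at h
        simp only [Bool.and_eq_true] at h
        refine main r (fun s hs => ?_) h.2
        rw [hs, Nat.eq_of_beq_eq_true h.1, Data.points_zero]
        exact hsub r (List.mem_of_getElem? hr)

theorem chkStepsI_sound (h15 : g 15 = 1) (d : Data) (base : α)
    (hrel : ∀ r ∈ d.rels, ∀ q : α, Data.act g r q = q)
    (hsub : ∀ r ∈ d.subs, Data.act g r base = base) :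
    ∀ (l : List ℕ) (k : ℕ), Upto g d base k → chkStepsI d k l = true → Upto g d base (k + l.length) := by
  intro l
  induction l with
  | nil => intro k hk _ f hf; exact hk f (by simpa using hf)
  | cons st l ih =>
    intro k hk h f hf
    simp only [chkStepsI, Bool.and_eq_true] at h
    refine ih (k + 1) ?_ h.2 f (by simp only [List.length_cons] at hf; omega)
    intro f hf'
    rcases Nat.lt_succ_iff_lt_or_eq.mp hf' with h' | rfl
    · exact hk f h'
    · exact chkStepI_sound g hg h15 d base hrel hsub f st hk h.1

theorem chkGoal_sound (h15 : g 15 = 1) (d : Data) (base : α) (k : ℕ) (hk : Upto g d base k)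
    (goal : List ℕ) (n v : ℕ) (h : chkGoal d k goal n v = true) :
    Data.act g goal base = base := by
  unfold chkGoal at h
  split at h
  · rename_i hw
    have := walkI_spec g hg h15 d _ k hk _ _ _ _ _ _ hw
    simpa [Data.act] using this
  · simp at h

end Sound

/-- A word which fixes the trivial coset lies in the subgroup. -/
theorem mem_of_act {G : Type*} [Group G] (g : ℕ → G) (H : Subgroup G) (w : List ℕ)
    (h : Data.act g w (QuotientGroup.mk 1 : G ⧸ H) = QuotientGroup.mk 1) :
    (w.map g).reverse.prod ∈ H := by
  rw [Data.act_eq] at h
  have e : ((w.map g).reverse.prod * 1 : G) = (w.map g).reverse.prod := mul_one _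
  rw [MulAction.Quotient.smul_mk, smul_eq_mul, e, QuotientGroup.eq, mul_one] at h
  simpa using inv_mem h

theorem act_of_mem {G : Type*} [Group G] (g : ℕ → G) (H : Subgroup G) (w : List ℕ)
    (h : (w.map g).reverse.prod ∈ H) :
    Data.act g w (QuotientGroup.mk 1 : G ⧸ H) = QuotientGroup.mk 1 := by
  rw [Data.act_eq, MulAction.Quotient.smul_mk, smul_eq_mul, mul_one, QuotientGroup.eq, mul_one]
  exact inv_mem h

end Cfsg.Agent.Fi23Mult
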