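import Cfsg.Agent.Lib.Fi23Mult.KLData

/-! Generated steps of a coset enumeration proof (w0 in W(E7)). -/

set_option autoImplicit false
set_option maxRecDepth 10000

namespace Cfsg.Agent.Fi23Mult.KL

def st32 : List ℕ := [
  0x3e0903ffa03dfa0030000b69006f,
  0x3a4d03ffc03a250030000a6e0065,
  0x325d03ffe02f8300300008f10063,
  0x3a450400003a370030000a720065,
  0x360004002035b70030000a6b0063,
  0x325a0400402f45003000082a0069,
  0x35ec04006035cb0030000a700063,
  0x35fc04008035b00030000a6d0061,
  0x2e4e0400a02c4b00300008240067,
  0x35e20400c035c60030000a710061,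
  0x35e80400e035ae003000095e0067,
  0x32450401002c4600300008150065,
  0x35df04012035c400300009620067,
  0x3182040140314d00300009550065,
  0x2e540401602c01003000080f006b,
  0x316e040180315d003000095b0065,
  0x31760401a0312900300008730069,
  0x2e4a0401c02beb003000080e0069,
  0x31580401e0313f00300008760069,
  0x2d900402002d6d003000086c0067,
  0x2e440402202bee0030000810006d,
  0x2d7e0402402d7500300008710067,
  0x2d870402602d4e00300007ab006f,
  0x2e400402802c080030000817006b,
  0x2d710402a02d5e00300007ac006f,
  0x29ed0402c029de00300006ef0065,
  0x2e3d0402e02c060030000783006f,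
  0x29e504030029e200300006ee0065,
  0x24c804032024c100300003f50063,
  0x2a6f040340291b00300006c50065,
  0x24c304036024bc00300003f30063,
  0x112604038010df003000012b0061,
  0x26380403a01f0500300003430063,
  0x10da0403c010d6003000011b0061,
  0x4f80403e004c30030000122005f,
  0x154e0404000d5d00300003390061,
  0x4be040420047d0030000044005f,
  0xd2404047006df00300001bd005f,
  0xcfa0404a0070800300001cd0067,
  0xcde0404c016bb003000052e0065,
  0x266c026600404f0030000325005d,
  0xcb4040510188000300005950063,
  0x4052023c10020000241005d,
  0x19d5040550023300300000270061,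
  0x19d3040560005a00300000260069,
  0x405902711002000028c005d,
  0x9850405b0005800300000250067,
  0x9800405c0005600300000240065,
  0x1c1c0405e0005400300000230063,
  0x1e6040610275b0275f00400002af005d,
  0xa0104063000500030000021006f,
  0x1d404065002000006c005d]

theorem chk32 : chkStepsI data 8192 st32 = true := by decide +kernel

end Cfsg.Agent.Fi23Mult.KL
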