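import Cfsg.Agent.Lib.Fi23Mult.KLSteps0
import Cfsg.Agent.Lib.Fi23Mult.KLSteps1
import Cfsg.Agent.Lib.Fi23Mult.KLSteps2

/-! Generated: the word lies in the subgroup (w0 in W(E7)). -/

set_option autoImplicit false
set_option maxRecDepth 10000

namespace Cfsg.Agent.Fi23Mult.KL

open Cfsg.Agent.Enum

theorem goal_ok : chkGoal data 8244 goal 169 goalPath = true := by decide +kernel

variable {G : Type*} [Group G] (g : ℕ → G) (hg : ∀ x, g (inv9 x) * g x = 1) (h15 : g 15 = 1)
  (hrel : ∀ r ∈ rels, (r.map g).reverse.prod = 1) (H : Subgroup G)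
  (hsub : ∀ r ∈ subs, (r.map g).reverse.prod ∈ H)
include hg h15 hrel hsub

theorem step {k k' : ℕ} (l : List ℕ) (hc : chkStepsI data k l = true) (hl : k + l.length = k')
    (hu : Upto g data (QuotientGroup.mk 1 : G ⧸ H) k) : Upto g data (QuotientGroup.mk 1 : G ⧸ H) k' :=
  hl ▸ chkStepsI_sound g hg h15 data _ (fun r hr q => by rw [Data.act_eq, hrel r hr, one_smul])
    (fun r hr => act_of_mem g H r (hsub r hr)) l k hu hc

theorem upto0 : Upto g data (QuotientGroup.mk 1 : G ⧸ H) 0 := fun f hf => absurd hf f.not_lt_zero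

theorem upto1 : Upto g data (QuotientGroup.mk 1 : G ⧸ H) 256 :=
  step g hg h15 hrel H hsub st0 chk0 (by decide +kernel) (upto0 g hg h15 hrel H hsub)

theorem upto2 : Upto g data (QuotientGroup.mk 1 : G ⧸ H) 512 :=
  step g hg h15 hrel H hsub st1 chk1 (by decide +kernel) (upto1 g hg h15 hrel H hsub)

theorem upto3 : Upto g data (QuotientGroup.mk 1 : G ⧸ H) 768 :=
  step g hg h15 hrel H hsub st2 chk2 (by decide +kernel) (upto2 g hg h15 hrel H hsub)

theorem upto4 : Upto g data (QuotientGroup.mk 1 : G ⧸ H) 1024 :=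
  step g hg h15 hrel H hsub st3 chk3 (by decide +kernel) (upto3 g hg h15 hrel H hsub)

theorem upto5 : Upto g data (QuotientGroup.mk 1 : G ⧸ H) 1280 :=
  step g hg h15 hrel H hsub st4 chk4 (by decide +kernel) (upto4 g hg h15 hrel H hsub)

theorem upto6 : Upto g data (QuotientGroup.mk 1 : G ⧸ H) 1536 :=
  step g hg h15 hrel H hsub st5 chk5 (by decide +kernel) (upto5 g hg h15 hrel H hsub)

theorem upto7 : Upto g data (QuotientGroup.mk 1 : G ⧸ H) 1792 :=
  step g hg h15 hrel H hsub st6 chk6 (by decide +kernel) (upto6 g hg h15 hrel H hsub)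

theorem upto8 : Upto g data (QuotientGroup.mk 1 : G ⧸ H) 2048 :=
  step g hg h15 hrel H hsub st7 chk7 (by decide +kernel) (upto7 g hg h15 hrel H hsub)

theorem upto9 : Upto g data (QuotientGroup.mk 1 : G ⧸ H) 2304 :=
  step g hg h15 hrel H hsub st8 chk8 (by decide +kernel) (upto8 g hg h15 hrel H hsub)

theorem upto10 : Upto g data (QuotientGroup.mk 1 : G ⧸ H) 2560 :=
  step g hg h15 hrel H hsub st9 chk9 (by decide +kernel) (upto9 g hg h15 hrel H hsub)

theorem upto11 : Upto g data (QuotientGroup.mk 1 : G ⧸ H) 2816 :=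
  step g hg h15 hrel H hsub st10 chk10 (by decide +kernel) (upto10 g hg h15 hrel H hsub)

theorem upto12 : Upto g data (QuotientGroup.mk 1 : G ⧸ H) 3072 :=
  step g hg h15 hrel H hsub st11 chk11 (by decide +kernel) (upto11 g hg h15 hrel H hsub)

theorem upto13 : Upto g data (QuotientGroup.mk 1 : G ⧸ H) 3328 :=
  step g hg h15 hrel H hsub st12 chk12 (by decide +kernel) (upto12 g hg h15 hrel H hsub)

theorem upto14 : Upto g data (QuotientGroup.mk 1 : G ⧸ H) 3584 :=
  step g hg h15 hrel H hsub st13 chk13 (by decide +kernel) (upto13 g hg h15 hrel H hsub)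

theorem upto15 : Upto g data (QuotientGroup.mk 1 : G ⧸ H) 3840 :=
  step g hg h15 hrel H hsub st14 chk14 (by decide +kernel) (upto14 g hg h15 hrel H hsub)

theorem upto16 : Upto g data (QuotientGroup.mk 1 : G ⧸ H) 4096 :=
  step g hg h15 hrel H hsub st15 chk15 (by decide +kernel) (upto15 g hg h15 hrel H hsub)

theorem upto17 : Upto g data (QuotientGroup.mk 1 : G ⧸ H) 4352 :=
  step g hg h15 hrel H hsub st16 chk16 (by decide +kernel) (upto16 g hg h15 hrel H hsub)

theorem upto18 : Upto g data (QuotientGroup.mk 1 : G ⧸ H) 4608 :=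
  step g hg h15 hrel H hsub st17 chk17 (by decide +kernel) (upto17 g hg h15 hrel H hsub)

theorem upto19 : Upto g data (QuotientGroup.mk 1 : G ⧸ H) 4864 :=
  step g hg h15 hrel H hsub st18 chk18 (by decide +kernel) (upto18 g hg h15 hrel H hsub)

theorem upto20 : Upto g data (QuotientGroup.mk 1 : G ⧸ H) 5120 :=
  step g hg h15 hrel H hsub st19 chk19 (by decide +kernel) (upto19 g hg h15 hrel H hsub)

theorem upto21 : Upto g data (QuotientGroup.mk 1 : G ⧸ H) 5376 :=
  step g hg h15 hrel H hsub st20 chk20 (by decide +kernel) (upto20 g hg h15 hrel H hsub)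

theorem upto22 : Upto g data (QuotientGroup.mk 1 : G ⧸ H) 5632 :=
  step g hg h15 hrel H hsub st21 chk21 (by decide +kernel) (upto21 g hg h15 hrel H hsub)

theorem upto23 : Upto g data (QuotientGroup.mk 1 : G ⧸ H) 5888 :=
  step g hg h15 hrel H hsub st22 chk22 (by decide +kernel) (upto22 g hg h15 hrel H hsub)

theorem upto24 : Upto g data (QuotientGroup.mk 1 : G ⧸ H) 6144 :=
  step g hg h15 hrel H hsub st23 chk23 (by decide +kernel) (upto23 g hg h15 hrel H hsub)

theorem upto25 : Upto g data (QuotientGroup.mk 1 : G ⧸ H) 6400 :=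
  step g hg h15 hrel H hsub st24 chk24 (by decide +kernel) (upto24 g hg h15 hrel H hsub)

theorem upto26 : Upto g data (QuotientGroup.mk 1 : G ⧸ H) 6656 :=
  step g hg h15 hrel H hsub st25 chk25 (by decide +kernel) (upto25 g hg h15 hrel H hsub)

theorem upto27 : Upto g data (QuotientGroup.mk 1 : G ⧸ H) 6912 :=
  step g hg h15 hrel H hsub st26 chk26 (by decide +kernel) (upto26 g hg h15 hrel H hsub)

theorem upto28 : Upto g data (QuotientGroup.mk 1 : G ⧸ H) 7168 :=
  step g hg h15 hrel H hsub st27 chk27 (by decide +kernel) (upto27 g hg h15 hrel H hsub)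

theorem upto29 : Upto g data (QuotientGroup.mk 1 : G ⧸ H) 7424 :=
  step g hg h15 hrel H hsub st28 chk28 (by decide +kernel) (upto28 g hg h15 hrel H hsub)

theorem upto30 : Upto g data (QuotientGroup.mk 1 : G ⧸ H) 7680 :=
  step g hg h15 hrel H hsub st29 chk29 (by decide +kernel) (upto29 g hg h15 hrel H hsub)

theorem upto31 : Upto g data (QuotientGroup.mk 1 : G ⧸ H) 7936 :=
  step g hg h15 hrel H hsub st30 chk30 (by decide +kernel) (upto30 g hg h15 hrel H hsub)

theorem upto32 : Upto g data (QuotientGroup.mk 1 : G ⧸ H) 8192 :=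
  step g hg h15 hrel H hsub st31 chk31 (by decide +kernel) (upto31 g hg h15 hrel H hsub)

theorem upto33 : Upto g data (QuotientGroup.mk 1 : G ⧸ H) 8244 :=
  step g hg h15 hrel H hsub st32 chk32 (by decide +kernel) (upto32 g hg h15 hrel H hsub)

theorem mem : (goal.map g).reverse.prod ∈ H :=
  mem_of_act g H goal (chkGoal_sound g hg h15 data _ _ (upto33 g hg h15 hrel H hsub) goal _ _ goal_ok)

end Cfsg.Agent.Fi23Mult.KL
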