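import Cfsg.Prelude.Def_Spor_Fi23
import Cfsg.Agent.Lib.SchurOEight.Lifts

/-!
# Exact lifts of the generators of Fi23 in a central extension

All relations except possibly the spider relation can be made to hold exactly.
-/

set_option autoImplicit false

open scoped commutatorElement

namespace Cfsg.Agent.Fi23Mult

open Cfsg.Spor

/-- The generators in numbering order. -/
def allGen : List Fi23.Gen := [.a, .b, .c, .d, .e, .f, .g, .j, .h, .i]

theorem mem_allGen (x : Fi23.Gen) : x ∈ allGen := by cases x <;> decide

theorem node_mem (x : Fi23.Gen) : x ∈ coxNodes Fi23.edges := by cases x <;> decide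

/-- Joined in the diagram. -/
def adj (x z : Fi23.Gen) : Bool := coxLabel Fi23.edges x z == 3

/-- Distinct and not joined. -/
def apart (x z : Fi23.Gen) : Bool := coxLabel Fi23.edges x z == 2

theorem label_cases (x z : Fi23.Gen) : x = z ∨ adj x z = true ∨ apart x z = true := by
  cases x <;> cases z <;> decide

theorem apart_symm (x z : Fi23.Gen) : apart x z = true → apart z x = true := by
  cases x <;> cases z <;> decide

/-- The image of a generator. -/
abbrev gen (x : Fi23.Gen) : Fi23 := PresentedGroup.of x

theorem gen_rel (x z : Fi23.Gen) : (gen x * gen z) ^ coxLabel Fi23.edges x z = 1 :=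
  PresentedGroup.one_of_mem (rels := coxRelators Fi23.edges ∪ {r | r ∈ Fi23.extra})
    (x := (FreeGroup.of x * FreeGroup.of z) ^ coxLabel Fi23.edges x z)
    (Or.inl ⟨x, node_mem x, z, node_mem z, rfl⟩)

theorem gen_sq (x : Fi23.Gen) : gen x * gen x = 1 := by simpa [coxLabel] using gen_rel x x

theorem gen_comm {x z : Fi23.Gen} (h : apart x z = true) : gen x * gen z = gen z * gen x := by
  have h2 := gen_rel x z
  rw [show coxLabel Fi23.edges x z = 2 by simpa [apart] using h, pow_two, mul_eq_one_iff_eq_inv,
    mul_inv_rev, inv_eq_of_mul_eq_one_right (gen_sq z), inv_eq_of_mul_eq_one_right (gen_sq x)] at h2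
  exact h2

theorem gen_braid {x z : Fi23.Gen} (h : adj x z = true) :
    gen x * gen z * gen x = gen z * gen x * gen z := by
  have h2 := gen_rel x z
  rw [show coxLabel Fi23.edges x z = 3 by simpa [adj] using h, pow_succ, pow_two] at h2
  have h3 : gen x * gen z * gen x * (gen z * gen x * gen z) = 1 := by
    simpa [mul_assoc] using h2
  rw [mul_eq_one_iff_eq_inv] at h3
  rw [h3, mul_inv_rev, mul_inv_rev, inv_eq_of_mul_eq_one_right (gen_sq z),
    inv_eq_of_mul_eq_one_right (gen_sq x), mul_assoc]

/-- The E7 word. -/
def wL : List Fi23.Gen := [.a, .b, .c, .d, .e, .f, .h]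

theorem gen_seven : ((wL.map gen).prod) ^ 9 = 1 := by
  have h := PresentedGroup.one_of_mem (rels := coxRelators Fi23.edges ∪ {r | r ∈ Fi23.extra})
    (x := (Fi23.a * Fi23.b * Fi23.c * Fi23.d * Fi23.e * Fi23.f * Fi23.h) ^ 9) (Or.inr (by simp [Fi23.extra]))
  simpa [wL, mul_assoc, gen, PresentedGroup.of] using h

/-- The spider word. -/
def sL : List Fi23.Gen := [.d, .c, .b, .d, .e, .f, .d, .h, .i]

theorem gen_spider : ((sL.map gen).prod) ^ 10 = 1 := by
  have h := PresentedGroup.one_of_mem (rels := coxRelators Fi23.edges ∪ {r | r ∈ Fi23.extra})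
    (x := (Fi23.d * Fi23.c * Fi23.b * Fi23.d * Fi23.e * Fi23.f * Fi23.d * Fi23.h * Fi23.i) ^ 10)
    (Or.inr (by simp [Fi23.extra]))
  simpa [sL, mul_assoc, gen, PresentedGroup.of] using h

section Comm

variable {E : Type*} [Group E] (y : Fi23.Gen → E)

/-- Compare words modulo commutations of unjoined generators. -/
def pull (x : Fi23.Gen) : List Fi23.Gen → Option (List Fi23.Gen)
  | [] => none
  | z :: r => if z = x then some r else
      bif apart x z then (pull x r).map (fun r' => z :: r') else none

/-- Compare words modulo commutations of unjoined generators. -/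
def eqComm : List Fi23.Gen → List Fi23.Gen → Bool
  | [], r => r.isEmpty
  | x :: l, r => match pull x r with
    | some r' => eqComm l r'
    | none => false

variable (hy : ∀ x z, apart x z = true → Commute (y x) (y z))
include hy

theorem pull_spec (x : Fi23.Gen) : ∀ (r r' : List Fi23.Gen), pull x r = some r' →
    (r.map y).prod = y x * (r'.map y).prod := by
  intro r
  induction r with
  | nil => intro r' h; simp [pull] at h
  | cons z r ih =>
    intro r' h
    simp only [pull] at h
    split at h
    · rename_i hzx
      simp only [Option.some.injEq] at h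
      simp [hzx, h]
    · cases ha : apart x z with
      | false => rw [ha] at h; simp at h
      | true =>
        rw [ha] at h
        simp only [cond_true, Option.map_eq_some_iff] at h
        obtain ⟨r'', hr, rfl⟩ := h
        rw [List.map_cons, List.prod_cons, ih r'' hr, ← mul_assoc, ← (hy x z ha).eq, mul_assoc,
          List.map_cons, List.prod_cons]

theorem eqComm_spec : ∀ (l r : List Fi23.Gen), eqComm l r = true → (l.map y).prod = (r.map y).prod := by
  intro l
  induction l with
  | nil => intro r h; simp only [eqComm, List.isEmpty_iff] at h; simp [h]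
  | cons x l ih =>
    intro r h
    simp only [eqComm] at h
    cases hp : pull x r with
    | none => rw [hp] at h; simp at h
    | some r' =>
      rw [hp] at h
      rw [pull_spec y hy x r r' hp, List.map_cons, List.prod_cons, ih r' h]

end Comm

/-- A word conjugating the E7 word to its reverse. -/
def revConj : List Fi23.Gen := [.a, .b, .a, .c, .b, .a, .d, .c, .b, .a, .e, .h, .d, .c, .b, .a]

theorem revConj_ok : eqComm (wL ++ revConj) (revConj ++ wL.reverse) = true := by decide +kernel

section Scale

variable {E : Type*} [Group E]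

theorem prod_scale {t : E} (ht : t ∈ Subgroup.center E) (l : List E) :
    (l.map (t * ·)).prod = t ^ l.length * l.prod := by
  induction l with
  | nil => simp
  | cons x l ih =>
    rw [List.map_cons, List.prod_cons, ih, List.length_cons, List.prod_cons, pow_succ',
      mul_assoc t (t ^ l.length), ← mul_assoc (t ^ l.length) x,
      ← (SchurOEight.central_comm (Subgroup.pow_mem _ ht l.length) x).eq]
    group

theorem reverse_mul_prod {c : E} (hc : c ∈ Subgroup.center E) (l : List E) (h : ∀ x ∈ l, x * x = c) :
    l.reverse.prod * l.prod = c ^ l.length := by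
  induction l with
  | nil => simp
  | cons x l ih =>
    rw [List.reverse_cons, List.prod_append, List.prod_singleton, List.prod_cons, List.length_cons,
      mul_assoc, ← mul_assoc x, h x (by simp), ← mul_assoc,
      (SchurOEight.central_comm hc l.reverse.prod).eq, mul_assoc,
      ih fun z hz => h z (by simp [hz]), pow_succ']

/-- The central multiple of `b` which satisfies the braid relation with `a`. -/
def braidFix (a b : E) : E := a * b * a * (b * a * b)⁻¹ * b

theorem braid_fix {a b : E} (h : a * b * a * (b * a * b)⁻¹ ∈ Subgroup.center E) :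
    a * braidFix a b * a = braidFix a b * a * braidFix a b := by
  unfold braidFix
  set k := a * b * a * (b * a * b)⁻¹ with hk
  have e : a * b * a = k * (b * a * b) := by rw [hk, inv_mul_cancel_right]
  have cm := fun t => (SchurOEight.central_comm h t).eq
  calc a * (k * b) * a = k * (a * b * a) := by
        rw [← mul_assoc, cm a]; group
    _ = k * (k * (b * a * b)) := by rw [e]
    _ = k * (b * a * k) * b := by rw [cm (b * a)]; group
    _ = k * b * a * (k * b) := by group

theorem sq_eq_of_braid {a b : E} (h : a * b * a = b * a * b) (ha : a * a ∈ Subgroup.center E) :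
    b * b = a * a := by
  have e : a * b * a * (a * b)⁻¹ = b := by rw [h]; group
  calc b * b = (a * b * a * (a * b)⁻¹) * (a * b * a * (a * b)⁻¹) := by rw [e]
    _ = (a * b) * (a * a) * (a * b)⁻¹ := by group
    _ = a * a := by rw [(SchurOEight.central_comm ha (a * b)).eq]; group

end Scale

/-- Exact relations apart from the spider relation. -/
structure Exact {E : Type*} [Group E] (y : Fi23.Gen → E) : Prop where
  sq : ∀ x, y x * y x = 1
  comm : ∀ x z, apart x z = true → Commute (y x) (y z)
  braid : ∀ x z, adj x z = true → y x * y z * y x = y z * y x * y z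
  seven : ((wL.map y).prod) ^ 9 = 1

/-- The pairs known to commute after `n` rounds. -/
def reach : ℕ → List (Fi23.Gen × Fi23.Gen)
  | 0 => [(.j, .a)]
  | n + 1 =>
    let L := reach n
    L ++ (allGen.flatMap fun x => allGen.map fun q => (x, q)).filter fun p =>
      !L.contains p && apart p.1 p.2 &&
        (L.contains (p.2, p.1) || allGen.any fun r => adj r p.2 && apart p.1 r && L.contains (p.1, r))

theorem reach_all : (allGen.all fun x => allGen.all fun z => !apart x z || (reach 14).contains (x, z)) = true := by
  decide +kernel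

/-- The edges away from the centre, the nearer end first. -/
def treeEdges : List (Fi23.Gen × Fi23.Gen) :=
  [(.d, .c), (.c, .b), (.b, .a), (.d, .e), (.e, .f), (.f, .g), (.g, .j), (.d, .h), (.h, .i)]

theorem adj_tree (x z : Fi23.Gen) : adj x z = true → (x, z) ∈ treeEdges ∨ (z, x) ∈ treeEdges := by
  cases x <;> cases z <;> decide

theorem tree_adj : ∀ p ∈ treeEdges, adj p.1 p.2 = true := by decide

section Lifts

variable {E : Type*} [Group E] (π : E →* Fi23) (hc : π.ker ≤ Subgroup.center E)
include hc

theorem comm_congr {a a' b b' : E} (ha : π a = π a') (hb : π b = π b') : ⁅a, b⁆ = ⁅a', b'⁆ := by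
  have hka : a' * a⁻¹ ∈ Subgroup.center E := hc (by rw [MonoidHom.mem_ker, map_mul, map_inv, ha, mul_inv_cancel])
  have hkb : b' * b⁻¹ ∈ Subgroup.center E := hc (by rw [MonoidHom.mem_ker, map_mul, map_inv, hb, mul_inv_cancel])
  rw [show a' = a' * a⁻¹ * a by group, show b' = b' * b⁻¹ * b by group]
  generalize a' * a⁻¹ = k at hka
  generalize b' * b⁻¹ = l at hkb
  rw [SchurOEight.commutator_central_mul (k * a) b hkb, ← commutatorElement_inv b (k * a),
    SchurOEight.commutator_central_mul b a hka, commutatorElement_inv]

theorem comm_central {a b : E} (h : π a * π b = π b * π a) : ⁅a, b⁆ ∈ Subgroup.center E :=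
  hc (by rw [MonoidHom.mem_ker, map_commutatorElement, commutatorElement_eq_one_iff_commute]; exact h)

variable (u : Fi23.Gen → E) (hu : ∀ x, π (u x) = gen x)
include hu

theorem comm_symm {x z : Fi23.Gen} (h : apart x z = true) : ⁅u x, u z⁆ = ⁅u z, u x⁆ := by
  have hzc := comm_central π hc (a := u z) (b := u x) (by rw [hu, hu]; exact gen_comm (apart_symm _ _ h))
  have h1 := SchurOEight.commutator_sq hzc (hc (by rw [MonoidHom.mem_ker, map_mul, hu, gen_sq]))
  rw [← commutatorElement_inv (u z) (u x)]
  exact inv_eq_of_mul_eq_one_right h1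

theorem comm_move {x p q : Fi23.Gen} (hpq : adj p q = true) (hp : apart x p = true)
    (hq : apart x q = true) : ⁅u x, u q⁆ = ⁅u x, u p⁆ := by
  set g := u p * u q with hg
  have hx : π (g * u x * g⁻¹) = π (u x) := by
    have e : gen p * gen q * gen x = gen x * (gen p * gen q) := by
      rw [mul_assoc, ← gen_comm hq, ← mul_assoc, ← gen_comm hp, mul_assoc]
    rw [map_mul, map_mul, map_inv, hg, map_mul, hu, hu, hu, e, mul_inv_cancel_right]
  have hp' : π (g * u p * g⁻¹) = π (u q) := by
    rw [map_mul, map_mul, map_inv, hg, map_mul, hu, hu, gen_braid hpq]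
    group
  rw [← comm_congr π hc hx hp', ← conjugate_commutatorElement,
    (SchurOEight.central_comm (comm_central π hc (by rw [hu, hu]; exact gen_comm hp)) g).eq,
    mul_inv_cancel_right]

theorem comm_ja : ⁅u .j, u .a⁆ = 1 := by
  set e := ⁅u .j, u .a⁆ with he
  have hec : e ∈ Subgroup.center E := comm_central π hc (by rw [hu, hu]; exact gen_comm (by decide))
  have e2 : e * e = 1 :=
    SchurOEight.commutator_sq hec (hc (by rw [MonoidHom.mem_ker, map_mul, hu, gen_sq]))
  have hb : ⁅u .j, u .b⁆ = e := comm_move π hc u hu (p := .a) (by decide) (by decide) (by decide)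
  have hcc : ⁅u .j, u .c⁆ = e := (comm_move π hc u hu (p := .b) (by decide) (by decide) (by decide)).trans hb
  have hd : ⁅u .j, u .d⁆ = e := (comm_move π hc u hu (p := .c) (by decide) (by decide) (by decide)).trans hcc
  have hee : ⁅u .j, u .e⁆ = e := (comm_move π hc u hu (p := .d) (by decide) (by decide) (by decide)).trans hd
  have hf : ⁅u .j, u .f⁆ = e := (comm_move π hc u hu (p := .e) (by decide) (by decide) (by decide)).trans hee
  have hh : ⁅u .j, u .h⁆ = e := (comm_move π hc u hu (p := .d) (by decide) (by decide) (by decide)).trans hd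
  have hw : ∀ x ∈ wL, u .j * u x * (u .j)⁻¹ = e * u x := by
    intro x hx
    have : ⁅u .j, u x⁆ = e := by
      simp only [wL, List.mem_cons, List.not_mem_nil, or_false] at hx
      rcases hx with rfl | rfl | rfl | rfl | rfl | rfl | rfl
      exacts [rfl, hb, hcc, hd, hee, hf, hh]
    rw [← this, commutatorElement_def]
    group
  set P := ((wL.map u).prod) ^ 9 with hP
  have hPc : P ∈ Subgroup.center E := hc (by
    rw [MonoidHom.mem_ker, hP, map_pow, map_list_prod, List.map_map,
      show (π : E → Fi23) ∘ u = gen from funext hu, gen_seven])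
  have hconj : u .j * (wL.map u).prod * (u .j)⁻¹ = e ^ 7 * (wL.map u).prod := by
    have hl := prod_scale hec (wL.map u)
    rw [List.map_map] at hl
    rw [← MulAut.conj_apply, map_list_prod, List.map_map,
      show List.map (⇑(MulAut.conj (u .j)) ∘ u) wL = List.map ((fun t => e * t) ∘ u) wL from
        List.map_congr_left fun x hx => hw x hx]
    exact hl
  have hPe : u .j * P * (u .j)⁻¹ = e ^ 63 * P := by
    rw [hP, ← conj_pow, hconj,
      ((SchurOEight.central_comm (Subgroup.pow_mem _ hec 7) (wL.map u).prod).symm).mul_pow, ← pow_mul]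
  rw [(SchurOEight.central_comm hPc (u .j)).eq, mul_inv_cancel_right] at hPe
  replace hPe : e ^ 63 = 1 := by simpa using hPe.symm
  calc e = e ^ 63 * ((e * e) ^ 31)⁻¹ := by rw [← pow_two, ← pow_mul]; group
    _ = 1 := by rw [hPe, e2, one_pow, inv_one, mul_one]

theorem comm_all {x z : Fi23.Gen} (h : apart x z = true) : Commute (u x) (u z) := by
  have key : ∀ n, ∀ p ∈ reach n, apart p.1 p.2 = true ∧ ⁅u p.1, u p.2⁆ = 1 := by
    intro n
    induction n with
    | zero =>
      intro p hp
      simp only [reach, List.mem_singleton] at hp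
      subst hp
      exact ⟨by decide, comm_ja π hc u hu⟩
    | succ n ih =>
      intro p hp
      simp only [reach, List.mem_append, List.mem_filter, Bool.and_eq_true, Bool.or_eq_true,
        List.any_eq_true, List.contains_iff_mem] at hp
      rcases hp with hp | ⟨-, ⟨-, hap⟩, hs | ⟨r, -, ⟨hadj, har⟩, hr⟩⟩
      · exact ih p hp
      · exact ⟨hap, by rw [comm_symm π hc u hu hap]; exact (ih _ hs).2⟩
      · exact ⟨hap, by rw [comm_move π hc u hu hadj har hap]; exact (ih _ hr).2⟩
  have hr := List.all_eq_true.1 (List.all_eq_true.1 reach_all x (mem_allGen x)) z (mem_allGen z)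
  simp only [h, Bool.not_true, Bool.false_or, List.contains_iff_mem] at hr
  exact commutatorElement_eq_one_iff_commute.1 (key 14 (x, z) hr).2

end Lifts

/-- Lifts with exact braid relations. -/
def braidLift {E : Type*} [Group E] (u : Fi23.Gen → E) : Fi23.Gen → E
  | .d => u .d
  | .c => braidFix (u .d) (u .c)
  | .b => braidFix (braidFix (u .d) (u .c)) (u .b)
  | .a => braidFix (braidFix (braidFix (u .d) (u .c)) (u .b)) (u .a)
  | .e => braidFix (u .d) (u .e)
  | .f => braidFix (braidFix (u .d) (u .e)) (u .f)
  | .g => braidFix (braidFix (braidFix (u .d) (u .e)) (u .f)) (u .g)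
  | .j => braidFix (braidFix (braidFix (braidFix (u .d) (u .e)) (u .f)) (u .g)) (u .j)
  | .h => braidFix (u .d) (u .h)
  | .i => braidFix (braidFix (u .d) (u .h)) (u .i)

theorem braidLift_tree {E : Type*} [Group E] (u : Fi23.Gen → E) : ∀ p ∈ treeEdges,
    braidLift u p.2 = braidFix (braidLift u p.1) (u p.2) := by
  intro p hp
  simp only [treeEdges, List.mem_cons, List.not_mem_nil, or_false] at hp
  rcases hp with rfl | rfl | rfl | rfl | rfl | rfl | rfl | rfl | rfl <;> rfl

/-- Exact lifts exist. -/
theorem exists_exact {E : Type*} [Group E] (π : E →* Fi23) (hπ : Function.Surjective π)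
    (hc : π.ker ≤ Subgroup.center E) : ∃ y : Fi23.Gen → E, Exact y ∧ ∀ x, π (y x) = gen x := by
  choose u hu using fun x => hπ (gen x)
  set v := braidLift u with hv
  have fix_spec : ∀ (a b : E) (p q : Fi23.Gen), adj p q = true → π a = gen p → π b = gen q →
      π (braidFix a b) = gen q ∧
        a * braidFix a b * a = braidFix a b * a * braidFix a b := by
    intro a b p q hpq ha hb
    have hk : π (a * b * a * (b * a * b)⁻¹) = 1 := by
      simp only [map_mul, map_inv, ha, hb]
      rw [gen_braid hpq, mul_inv_cancel]
    exact ⟨by rw [braidFix, map_mul, hk, one_mul, hb], braid_fix (hc hk)⟩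
  have hd : π (v .d) = gen .d := hu _
  have step : ∀ p q, (p, q) ∈ treeEdges → π (v p) = gen p → π (v q) = gen q := by
    intro p q hm hp
    rw [hv, braidLift_tree u (p, q) hm]
    exact (fix_spec _ _ p q (tree_adj _ hm) hp (hu q)).1
  have hvπ : ∀ x, π (v x) = gen x := by
    have h1 := step .d .c (by decide) hd
    have h2 := step .c .b (by decide) h1
    have h3 := step .b .a (by decide) h2
    have h4 := step .d .e (by decide) hd
    have h5 := step .e .f (by decide) h4
    have h6 := step .f .g (by decide) h5
    have h7 := step .g .j (by decide) h6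
    have h8 := step .d .h (by decide) hd
    have h9 := step .h .i (by decide) h8
    intro x
    cases x <;> assumption
  have hbraid : ∀ x z, adj x z = true → v x * v z * v x = v z * v x * v z := by
    intro x z h
    rcases adj_tree x z h with hm | hm
    · rw [hv, braidLift_tree u (x, z) hm]
      exact (fix_spec _ _ x z h (hvπ x) (hu z)).2
    · rw [hv, braidLift_tree u (z, x) hm]
      exact ((fix_spec _ _ z x (tree_adj _ hm) (hvπ z) (hu x)).2).symm
  have hcomm : ∀ x z, apart x z = true → Commute (v x) (v z) := fun x z h => comm_all π hc v hvπ h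
  set c := v .d * v .d with hcd
  have hcc : c ∈ Subgroup.center E := hc (by rw [MonoidHom.mem_ker, hcd, map_mul, hvπ, gen_sq])
  have hsq : ∀ x, v x * v x = c := by
    have st : ∀ p q, (p, q) ∈ treeEdges → v p * v p = c → v q * v q = c := fun p q hm hp =>
      (sq_eq_of_braid (hbraid p q (tree_adj _ hm)) (hp ▸ hcc)).trans hp
    have h1 := st .d .c (by decide) rfl
    have h2 := st .c .b (by decide) h1
    have h3 := st .b .a (by decide) h2
    have h4 := st .d .e (by decide) rfl
    have h5 := st .e .f (by decide) h4
    have h6 := st .f .g (by decide) h5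
    have h7 := st .g .j (by decide) h6
    have h8 := st .d .h (by decide) rfl
    have h9 := st .h .i (by decide) h8
    intro x
    cases x <;> first | assumption | rfl
  set L := wL.map v with hL
  set P := L.prod ^ 9 with hP
  have hPc : P ∈ Subgroup.center E := hc (by
    rw [MonoidHom.mem_ker, hP, hL, map_pow, map_list_prod, List.map_map,
      show (π : E → Fi23) ∘ v = gen from funext hvπ, gen_seven])
  have hrev : L.reverse.prod ^ 9 = P := by
    have h := eqComm_spec v hcomm _ _ revConj_ok
    rw [List.map_append, List.map_append, List.prod_append, List.prod_append, List.map_reverse, ← hL] at h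
    generalize (revConj.map v).prod = g at h
    have e : L.reverse.prod = g⁻¹ * L.prod * (g⁻¹)⁻¹ := by rw [inv_inv, mul_assoc, h, inv_mul_cancel_left]
    rw [e, conj_pow, ← hP, (SchurOEight.central_comm hPc g⁻¹).eq, mul_inv_cancel_right]
  have hPP : P * P = c ^ 63 := by
    have h := reverse_mul_prod hcc ((List.replicate 9 L).flatten) (fun x hx => by
      simp only [List.mem_flatten, List.mem_replicate] at hx
      obtain ⟨l, ⟨-, rfl⟩, hx⟩ := hx
      obtain ⟨w, -, rfl⟩ := List.mem_map.1 (hL ▸ hx)
      exact hsq w)
    rw [List.reverse_flatten, List.map_replicate, List.reverse_replicate] at h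
    simp only [List.prod_flatten, List.map_replicate, List.prod_replicate, List.length_flatten,
      List.sum_replicate, smul_eq_mul] at h
    rw [hrev, ← hP] at h
    simpa [hL, wL] using h
  set t := P⁻¹ * c ^ 31 with ht
  have htc : t ∈ Subgroup.center E := mul_mem (inv_mem hPc) (Subgroup.pow_mem _ hcc 31)
  have htπ : π t = 1 := by
    have h1 : π c = 1 := by rw [hcd, map_mul, hvπ, gen_sq]
    have h2 : π P = 1 := by
      rw [hP, hL, map_pow, map_list_prod, List.map_map, show (π : E → Fi23) ∘ v = gen from funext hvπ, gen_seven]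
    rw [ht, map_mul, map_inv, h2, map_pow π c, h1, inv_one, one_pow, mul_one]
  have tc := fun g => (SchurOEight.central_comm htc g).eq
  have hcP : Commute (c ^ 31) P⁻¹ := SchurOEight.central_comm (inv_mem hPc) _
  refine ⟨fun x => t * v x, ⟨fun x => ?_, fun x z h => ?_, fun x z h => ?_, ?_⟩, fun x => ?_⟩
  · calc t * v x * (t * v x) = t * (v x * t) * v x := by group
      _ = t * (t * v x) * v x := by rw [tc]
      _ = t * t * (v x * v x) := by group
      _ = P⁻¹ * (c ^ 31 * P⁻¹) * c ^ 31 * c := by rw [hsq, ht]; group
      _ = (P * P)⁻¹ * (c ^ 31 * c ^ 31 * c) := by rw [hcP.eq]; group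
      _ = 1 := by rw [hPP]; group
  · refine Commute.mul_left ?_ (Commute.mul_right (SchurOEight.central_comm htc _) (hcomm x z h))
    exact (SchurOEight.central_comm htc _).symm
  · have key : ∀ a b : E, t * a * (t * b) * (t * a) = t ^ 3 * (a * b * a) := fun a b => by
      have := prod_scale htc [a, b, a]
      simpa [mul_assoc] using this
    rw [key, key, hbraid x z h]
  · rw [show wL.map (fun x => t * v x) = L.map (t * ·) by rw [hL, List.map_map]; rfl,
      prod_scale htc, show L.length = 7 by simp [hL, wL],
      ((SchurOEight.central_comm (Subgroup.pow_mem _ htc 7) L.prod).symm).mul_pow, ← pow_mul, ← hP, ht,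
      hcP.symm.mul_pow, ← pow_mul]
    calc P⁻¹ ^ (7 * 9) * c ^ (31 * (7 * 9)) * P = P⁻¹ ^ 63 * (c ^ (31 * 63) * P) := by group
      _ = P⁻¹ ^ 63 * (P * c ^ (31 * 63)) := by rw [(SchurOEight.central_comm hPc _).eq]
      _ = ((P * P) ^ 31)⁻¹ * c ^ (31 * 63) := by rw [← pow_two, ← pow_mul]; group
      _ = 1 := by rw [hPP]; group
  · rw [map_mul, htπ, one_mul, hvπ]

end Cfsg.Agent.Fi23Mult
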