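import Cfsg.Agent.Lib.SchurOEight.Covers
import Cfsg.Agent.Lib.Fi23Mult.RootData
import Cfsg.Agent.Lib.Enum.Pres

/-!
# Normal subgroups of W(E8) meeting a parabolic subgroup of type E7
-/

set_option autoImplicit false
set_option maxRecDepth 10000
set_option linter.style.haveILetI false

open scoped Matrix commutatorElement

namespace Cfsg.Agent.Fi23Mult

open Cfsg.Agent.SchurOEight Cfsg.Agent.Enum

/-- The Coxeter group of type E8. -/
abbrev W8 : Type := CoxeterMatrix.E₈.Group

/-- A word for the longest element: the fifteenth power of a Coxeter element. -/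
def uL : List (Fin 8) := ((List.replicate 15 [(0 : Fin 8), 2, 3, 4, 5, 6, 7, 1]).flatten).reverse

/-- The longest element. -/
noncomputable def uW : W8 := (uL.map CoxeterMatrix.E₈.simple).prod

/-- The parabolic subgroup of type E7. -/
def W7 : Subgroup W8 :=
  Subgroup.closure {x | ∃ i : Fin 8, i ≠ 7 ∧ x = CoxeterMatrix.E₈.simple i}

theorem root_invol : rootTbl.chkInvol = true := by decide +kernel

theorem root_cox : ∀ i j : Fin 8,
    rootTbl.chkWord (List.replicate (CoxeterMatrix.E₈ i j) [i.val, j.val]).flatten = true := by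
  decide +kernel

/-- The reflection of number `i` on the roots. -/
def rootPerm (i : Fin 8) : Equiv.Perm (Fin rootTbl.N) := rootTbl.permOf root_invol i.val

theorem root_liftable : CoxeterMatrix.E₈.IsLiftable rootPerm := fun i j => by
  unfold rootPerm
  rw [← Pres.prod_replicate_flatten (rootTbl.permOf root_invol)]
  exact rootTbl.prod_permOf root_invol (root_cox i j)

/-- The action on the roots. -/
noncomputable def rootRep : W8 →* Equiv.Perm (Fin rootTbl.N) :=
  CoxeterMatrix.E₈.toCoxeterSystem.lift ⟨rootPerm, root_liftable⟩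

theorem rootRep_simple (i : Fin 8) : rootRep (CoxeterMatrix.E₈.simple i) = rootPerm i := by
  rw [← CoxeterMatrix.toCoxeterSystem_simple CoxeterMatrix.E₈]
  exact CoxeterMatrix.E₈.toCoxeterSystem.lift_apply_simple _ i

/-- The highest root. -/
def theta : Fin rootTbl.N := ⟨0, by decide⟩

theorem theta_fixed : ∀ i : Fin 8, i ≠ 7 → rootTbl.img i.val 0 = 0 := by decide +kernel

theorem theta_moved : rootTbl.imgWord (uL.reverse.map Fin.val) 0 ≠ 0 := by decide +kernel

theorem uW_not_mem : uW ∉ W7 := by
  intro h
  have hle : W7 ≤ (MulAction.stabilizer (Equiv.Perm (Fin rootTbl.N)) theta).comap rootRep := by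
    refine (Subgroup.closure_le _).2 ?_
    rintro _ ⟨i, hi, rfl⟩
    rw [SetLike.mem_coe, Subgroup.mem_comap, MulAction.mem_stabilizer_iff, rootRep_simple]
    exact Fin.ext (theta_fixed i hi)
  have h1 := MulAction.mem_stabilizer_iff.1 (hle h)
  have h2 : rootRep uW = (((uL.reverse.map Fin.val)).map (rootTbl.permOf root_invol)).reverse.prod := by
    rw [uW, map_list_prod, List.map_map, List.map_map, List.map_reverse, List.reverse_reverse]
    exact congrArg List.prod (List.map_congr_left fun i _ => rootRep_simple i)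
  rw [h2, ← Data.act_eq, Table.act_permOf] at h1
  exact theta_moved (congrArg Fin.val h1)

theorem uW_ne_one : uW ≠ 1 := fun h => uW_not_mem (h ▸ one_mem W7)

theorem uL_mat : wordC uL = idC := by decide +kernel

theorem rep_uW : rep uW = 1 := by
  rw [uW, rep_word]
  refine Subtype.ext (Units.ext ?_)
  rw [wordO_val, uL_mat, toMat_idC]
  rfl

theorem card_O8 : Nat.card O8 = 348364800 := by
  rw [Cfsg.Agent.S0287.result (q := 2) (by simp) 4 (by norm_num)]
  norm_num [Finset.prod_range_succ]

theorem card_ker_rep : Nat.card rep.ker = 2 := by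
  have h := Subgroup.card_mul_index rep.ker
  have h2 : rep.ker.index = Nat.card O8 := by
    rw [Subgroup.index_ker]
    exact Nat.card_congr ((MulEquiv.subgroupCongr (MonoidHom.range_eq_top.2 rep_surjective)).trans
      Subgroup.topEquiv).toEquiv
  rw [h2, card_O8] at h
  rw [card_weyl] at h
  exact Nat.eq_of_mul_eq_mul_right (by norm_num) (h.trans (by norm_num))

theorem ker_rep {v : W8} (hv : rep v = 1) : v = 1 ∨ v = uW := by
  by_cases h1 : v = 1
  · exact Or.inl h1
  obtain ⟨y, -, huniq⟩ := (Nat.card_eq_two_iff' (1 : rep.ker)).1 card_ker_rep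
  have e1 : (⟨v, hv⟩ : rep.ker) = y := huniq _ fun e => h1 (congrArg Subtype.val e)
  have e2 : (⟨uW, rep_uW⟩ : rep.ker) = y := huniq _ fun e => uW_ne_one (congrArg Subtype.val e)
  exact Or.inr (congrArg Subtype.val (e1.trans e2.symm))

/-- Fixed vectors of seven of the eight simple reflections, as codes. -/
def dualCode (i : Fin 8) : ℕ :=
  ((List.range 256).find? fun n => Nat.blt 0 n && (List.finRange 8).all fun j =>
    decide (j = i) || Nat.beq (app (sMat j) n) n).getD 0

/-- Every pair of reflections other than the `i`-th fixes the vector. -/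
def pairFix (i : Fin 8) (n : ℕ) : Bool :=
  (List.finRange 8).all fun j => (List.finRange 8).all fun k =>
    decide (j = i) || decide (k = i) || Nat.beq (app (sMat j) (app (sMat k) n)) n

theorem pairFix_dual : ∀ i : Fin 8,
    (decide (dualCode i < 256) && (pairFix i (dualCode i) && Nat.blt 0 (dualCode i))) = true := by
  decide +kernel

theorem pairFix_unique : (List.finRange 8).all (fun i => (List.range 256).all fun n =>
    !pairFix i n || Nat.beq n 0 || Nat.beq n (dualCode i)) = true := by decide +kernel

/-- All sums of the dual vectors. -/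
def spanList : List ℕ :=
  (List.finRange 8).foldl (fun L i => L ++ L.map (fun a => a ^^^ dualCode i)) [0]

theorem span_all : (List.range 256).all (fun n => decide (n ∈ spanList)) = true := by decide +kernel

theorem vec_xor (a b : ℕ) : vec (a ^^^ b) = vec a + vec b := by
  funext r
  simp [vec, Nat.testBit_xor, b2_xor]

theorem vec_inj : ∀ a < 256, ∀ b < 256, vec a = vec b → a = b := by
  intro a ha b hb h
  have key : (List.range 256).all (fun n => Nat.beq (code (vec n)) n) = true := by decide +kernel
  have k1 := List.all_eq_true.1 key a (List.mem_range.2 ha)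
  have k2 := List.all_eq_true.1 key b (List.mem_range.2 hb)
  rw [← Nat.eq_of_beq_eq_true k1, ← Nat.eq_of_beq_eq_true k2, h]

/-- An element centralising the even part acts trivially on the lattice modulo 2. -/
theorem rep_eq_one_of_comm {v : W8} (hv : ∀ g : WP, v * g.1 = g.1 * v) : rep v = 1 := by
  set A := ((rep v).1 : Matrix Ix Ix (ZMod 2)) with hA
  have hcomm : ∀ j k : Fin 8, A * (toMat (sMat j) * toMat (sMat k)) =
      (toMat (sMat j) * toMat (sMat k)) * A := fun j k => by
    have h := congrArg rep (hv (pr j k))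
    simp only [map_mul, pr, rep_simple] at h
    have h2 := congrArg (fun x : O8 => (x.1 : Matrix Ix Ix (ZMod 2))) h
    exact h2
  have hfix : ∀ i, A *ᵥ vec (dualCode i) = vec (dualCode i) := by
    intro i
    have hd := pairFix_dual i
    simp only [Bool.and_eq_true, decide_eq_true_eq] at hd
    obtain ⟨hlt, hpf, hpos⟩ := hd
    obtain ⟨hn, hvec⟩ := code_spec (A *ᵥ vec (dualCode i))
    have hnf : pairFix i (code (A *ᵥ vec (dualCode i))) = true := by
      simp only [pairFix, List.all_eq_true, Bool.or_eq_true, decide_eq_true_eq] at hpf ⊢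
      intro j hj k hk
      rcases hpf j hj k hk with h | h
      · exact Or.inl h
      refine Or.inr (Nat.beq_eq ▸ ?_)
      have e : vec (app (sMat j) (app (sMat k) (code (A *ᵥ vec (dualCode i))))) =
          vec (code (A *ᵥ vec (dualCode i))) := by
        rw [← app_spec, ← app_spec, hvec, Matrix.mulVec_mulVec, Matrix.mulVec_mulVec, ← hcomm,
          ← Matrix.mulVec_mulVec, ← Matrix.mulVec_mulVec, app_spec, app_spec,
          Nat.eq_of_beq_eq_true h]
      exact vec_inj _ (sMat_qB j _ (sMat_qB k _ hn).1).1 _ hn e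
    have hu := List.all_eq_true.1 (List.all_eq_true.1 pairFix_unique i (List.mem_finRange i)) _
      (List.mem_range.2 hn)
    simp only [hnf, Bool.not_true, Bool.false_or, Bool.or_eq_true] at hu
    rcases hu with h0 | h0
    · exfalso
      have e : A *ᵥ vec (dualCode i) = vec 0 := by rw [← hvec, Nat.eq_of_beq_eq_true h0]
      have hz : vec 0 = 0 := by funext r; simp [vec, b2]
      have hinj : vec (dualCode i) = vec 0 := by
        have h1 := congrArg (fun x => ((rep v)⁻¹.1 : Matrix Ix Ix (ZMod 2)) *ᵥ x) e
        simp only [hz, Matrix.mulVec_zero, Matrix.mulVec_mulVec] at h1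
        rw [hA, ← Units.val_mul, ← Subgroup.coe_mul, inv_mul_cancel] at h1
        simpa [hz] using h1
      have := vec_inj _ hlt _ (by norm_num) hinj
      rw [this] at hpos
      exact absurd hpos (by decide)
    · rw [← hvec, Nat.eq_of_beq_eq_true h0]
  have hspan : ∀ (L : List (Fin 8)) (S : List ℕ), (∀ a ∈ S, A *ᵥ vec a = vec a) →
      ∀ a ∈ L.foldl (fun T i => T ++ T.map (fun a => a ^^^ dualCode i)) S, A *ᵥ vec a = vec a := by
    intro L
    induction L with
    | nil => exact fun S h => h
    | cons i L ih =>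
      intro S h
      refine ih _ fun a ha => ?_
      rcases List.mem_append.1 ha with ha | ha
      · exact h a ha
      · obtain ⟨b, hb, rfl⟩ := List.mem_map.1 ha
        rw [vec_xor, Matrix.mulVec_add, h b hb, hfix]
  have hall : ∀ x : Ix → ZMod 2, A *ᵥ x = x := fun x => by
    obtain ⟨hn, hx⟩ := code_spec x
    have hm := of_decide_eq_true (List.all_eq_true.1 span_all _ (List.mem_range.2 hn))
    have h0 : ∀ a ∈ [0], A *ᵥ vec a = vec a := by
      intro a ha
      rw [List.mem_singleton.1 ha, show vec 0 = 0 by funext r; simp [vec, b2], Matrix.mulVec_zero]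
    rw [← hx]
    exact hspan (List.finRange 8) [0] h0 _ hm
  refine Subtype.ext (Units.ext ?_)
  show A = (1 : Matrix Ix Ix (ZMod 2))
  refine Matrix.ext_of_mulVec_single fun j => ?_
  rw [hall, Matrix.one_mulVec]

/-- If the image of the longest element lies in the image of the parabolic subgroup of type E7, the
map to a quotient in which the even part survives has no central kernel. -/
theorem ker_trivial {E G : Type*} [Group E] [Group G] (φ : W8 →* E) (π : E →* G)
    (hne : ¬ WP ≤ (π.comp φ).ker) (hu : φ uW ∈ W7.map φ) : ∀ v, π (φ v) = 1 → φ v = 1 := by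
  set N := (π.comp φ).ker with hN
  haveI : IsSimpleGroup G8 := Cfsg.Agent.S0296.result 4 le_rfl
  have hc := two_central (card_ker cov₁_surjective)
  set M := N.subgroupOf WP with hM
  have hMc : ∀ m ∈ M, m ∈ Subgroup.center WP := by
    haveI : M.Normal := (MonoidHom.normal_ker _).subgroupOf WP
    rcases (Subgroup.Normal.map (inferInstance : M.Normal) cov₁ cov₁_surjective).eq_bot_or_eq_top with h | h
    · intro m hm
      exact hc ((Subgroup.mem_bot.1 (h ▸ Subgroup.mem_map_of_mem cov₁ hm)))
    · exfalso
      refine hne fun w hw => ?_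
      have key : commutator WP ≤ M := by
        rw [commutator_def, Subgroup.commutator_le]
        intro a _ b _
        obtain ⟨m, hm, hma⟩ := h.ge (Subgroup.mem_top (cov₁ a))
        have hk : m⁻¹ * a ∈ Subgroup.center WP := hc (by rw [MonoidHom.mem_ker, map_mul, map_inv, hma, inv_mul_cancel])
        have hcm := Subgroup.mem_center_iff.1 hk
        have e : ⁅a, b⁆ = m * (b * m⁻¹ * b⁻¹) := by
          have ea : a = m * (m⁻¹ * a) := by group
          generalize hkk : m⁻¹ * a = k at ea hcm
          rw [commutatorElement_def, ea, mul_inv_rev]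
          calc m * k * b * (k⁻¹ * m⁻¹) * b⁻¹ = m * ((k * b) * k⁻¹) * m⁻¹ * b⁻¹ := by group
            _ = m * ((b * k) * k⁻¹) * m⁻¹ * b⁻¹ := by rw [← hcm b]
            _ = m * (b * m⁻¹ * b⁻¹) := by group
        rw [e]
        exact mul_mem hm (‹M.Normal›.conj_mem _ (inv_mem hm) b)
      rw [wp_perfect] at key
      exact key (Subgroup.mem_top (⟨w, hw⟩ : WP))
  have hNu : ∀ v ∈ N, v = 1 ∨ v = uW := by
    intro v hv
    refine ker_rep (rep_eq_one_of_comm ?_)
    let c : WP → WP := fun g =>
      ⟨v * g.1 * v⁻¹ * g.1⁻¹, mul_mem ((MonoidHom.normal_ker _).conj_mem _ g.2 v) (inv_mem g.2)⟩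
    have hcN : ∀ g, c g ∈ M := fun g => by
      rw [hM, Subgroup.mem_subgroupOf]
      show v * g.1 * v⁻¹ * g.1⁻¹ ∈ N
      rw [show v * g.1 * v⁻¹ * g.1⁻¹ = v * (g.1 * v⁻¹ * g.1⁻¹) by group]
      exact mul_mem hv ((MonoidHom.normal_ker _).conj_mem _ (inv_mem hv) g.1)
    let ψ : WP →* Subgroup.center WP :=
      MonoidHom.mk' (fun g => ⟨c g, hMc _ (hcN g)⟩) fun g h => by
        refine Subtype.ext ?_
        show c (g * h) = c g * c h
        have e := Subgroup.mem_center_iff.1 (hMc _ (hcN h)) g
        have e1 : (g : W8) * (c h : W8) = (c h : W8) * g := congrArg Subtype.val e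
        refine Subtype.ext ?_
        show v * (g.1 * h.1) * v⁻¹ * (g.1 * h.1)⁻¹ = (c g : W8) * (c h : W8)
        calc v * (g.1 * h.1) * v⁻¹ * (g.1 * h.1)⁻¹ = v * g.1 * v⁻¹ * (c h : W8) * g.1⁻¹ := by
              show _ = v * g.1 * v⁻¹ * (v * h.1 * v⁻¹ * h.1⁻¹) * g.1⁻¹
              group
          _ = v * g.1 * v⁻¹ * (g.1⁻¹ * ((g : W8) * (c h : W8))) * g.1⁻¹ := by group
          _ = v * g.1 * v⁻¹ * (g.1⁻¹ * ((c h : W8) * g)) * g.1⁻¹ := by rw [e1]
          _ = (c g : W8) * (c h : W8) := by
              show _ = (v * g.1 * v⁻¹ * g.1⁻¹) * (c h : W8)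
              group
    have hψ : commutator WP ≤ ψ.ker := by
      rw [commutator_def, Subgroup.commutator_le]
      intro a _ b _
      rw [MonoidHom.mem_ker, map_commutatorElement, commutatorElement_eq_one_iff_commute]
      exact Subtype.ext (Subgroup.mem_center_iff.1 (ψ b).2 (ψ a).1)
    rw [wp_perfect] at hψ
    intro g
    have h1 := congrArg (fun x : Subgroup.center WP => ((x : WP) : W8)) (MonoidHom.mem_ker.1 (hψ (Subgroup.mem_top g)))
    have h2 : v * g.1 * v⁻¹ * g.1⁻¹ = 1 := h1
    rw [mul_inv_eq_one, mul_inv_eq_iff_eq_mul] at h2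
    exact h2
  obtain ⟨w, hw, hwe⟩ := hu
  have hwN : w⁻¹ * uW ∈ N := by
    rw [hN, MonoidHom.mem_ker, MonoidHom.comp_apply, map_mul, map_inv, hwe, inv_mul_cancel, map_one]
  have hone : φ uW = 1 := by
    rcases hNu _ hwN with h | h
    · exact absurd (inv_mul_eq_one.1 h ▸ hw) uW_not_mem
    · have : w = 1 := by simpa using h
      rw [← hwe, this, map_one]
  intro v hv
  rcases hNu v hv with rfl | rfl
  · exact map_one φ
  · exact hone

end Cfsg.Agent.Fi23Mult
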