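import Cfsg.Agent.Lib.Fi23Mult.ZHData

/-! Generated steps of a coset enumeration proof (z in H). -/

set_option autoImplicit false
set_option maxRecDepth 10000

namespace Cfsg.Agent.Fi23Mult.ZH

def st96 : List ℕ := [
  0xc4000ea0bffe000320040000002007f,
  0xc001000e90020000003006f,
  0x230c0030001200300000000081]

theorem chk96 : chkStepsI data 24576 st96 = true := by decide +kernel

end Cfsg.Agent.Fi23Mult.ZH
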