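import Cfsg.Agent.Lib.Fi23Mult.ZHSteps0
import Cfsg.Agent.Lib.Fi23Mult.ZHSteps1
import Cfsg.Agent.Lib.Fi23Mult.ZHSteps2
import Cfsg.Agent.Lib.Fi23Mult.ZHSteps3
import Cfsg.Agent.Lib.Fi23Mult.ZHSteps4
import Cfsg.Agent.Lib.Fi23Mult.ZHSteps5
import Cfsg.Agent.Lib.Fi23Mult.ZHSteps6

/-! Generated: the word lies in the subgroup (z in H). -/

set_option autoImplicit false
set_option maxRecDepth 10000

namespace Cfsg.Agent.Fi23Mult.ZH

open Cfsg.Agent.Enum

theorem goal_ok : chkGoal data 24579 goal 2 goalPath = true := by decide +kernel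

variable {G : Type*} [Group G] (g : ℕ → G) (hg : ∀ x, g (inv9 x) * g x = 1) (h15 : g 15 = 1)
  (hrel : ∀ r ∈ rels, (r.map g).reverse.prod = 1) (H : Subgroup G)
  (hsub : ∀ r ∈ subs, (r.map g).reverse.prod ∈ H)
include hg h15 hrel hsub

theorem step {k k' : ℕ} (l : List ℕ) (hc : chkStepsI data k l = true) (hl : k + l.length = k')
    (hu : Upto g data (QuotientGroup.mk 1 : G ⧸ H) k) : Upto g data (QuotientGroup.mk 1 : G ⧸ H) k' :=
  hl ▸ chkStepsI_sound g hg h15 data _ (fun r hr q => by rw [Data.act_eq, hrel r hr, one_smul])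
    (fun r hr => act_of_mem g H r (hsub r hr)) l k hu hc

theorem upto0 : Upto g data (QuotientGroup.mk 1 : G ⧸ H) 0 := fun f hf => absurd hf f.not_lt_zero

theorem upto1 : Upto g data (QuotientGroup.mk 1 : G ⧸ H) 256 :=
  step g hg h15 hrel H hsub st0 chk0 (by decide +kernel) (upto0 g hg h15 hrel H hsub)

theorem upto2 : Upto g data (QuotientGroup.mk 1 : G ⧸ H) 512 :=
  step g hg h15 hrel H hsub st1 chk1 (by decide +kernel) (upto1 g hg h15 hrel H hsub)

theorem upto3 : Upto g data (QuotientGroup.mk 1 : G ⧸ H) 768 :=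
  step g hg h15 hrel H hsub st2 chk2 (by decide +kernel) (upto2 g hg h15 hrel H hsub)

theorem upto4 : Upto g data (QuotientGroup.mk 1 : G ⧸ H) 1024 :=
  step g hg h15 hrel H hsub st3 chk3 (by decide +kernel) (upto3 g hg h15 hrel H hsub)

theorem upto5 : Upto g data (QuotientGroup.mk 1 : G ⧸ H) 1280 :=
  step g hg h15 hrel H hsub st4 chk4 (by decide +kernel) (upto4 g hg h15 hrel H hsub)

theorem upto6 : Upto g data (QuotientGroup.mk 1 : G ⧸ H) 1536 :=
  step g hg h15 hrel H hsub st5 chk5 (by decide +kernel) (upto5 g hg h15 hrel H hsub)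

theorem upto7 : Upto g data (QuotientGroup.mk 1 : G ⧸ H) 1792 :=
  step g hg h15 hrel H hsub st6 chk6 (by decide +kernel) (upto6 g hg h15 hrel H hsub)

theorem upto8 : Upto g data (QuotientGroup.mk 1 : G ⧸ H) 2048 :=
  step g hg h15 hrel H hsub st7 chk7 (by decide +kernel) (upto7 g hg h15 hrel H hsub)

theorem upto9 : Upto g data (QuotientGroup.mk 1 : G ⧸ H) 2304 :=
  step g hg h15 hrel H hsub st8 chk8 (by decide +kernel) (upto8 g hg h15 hrel H hsub)

theorem upto10 : Upto g data (QuotientGroup.mk 1 : G ⧸ H) 2560 :=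
  step g hg h15 hrel H hsub st9 chk9 (by decide +kernel) (upto9 g hg h15 hrel H hsub)

theorem upto11 : Upto g data (QuotientGroup.mk 1 : G ⧸ H) 2816 :=
  step g hg h15 hrel H hsub st10 chk10 (by decide +kernel) (upto10 g hg h15 hrel H hsub)

theorem upto12 : Upto g data (QuotientGroup.mk 1 : G ⧸ H) 3072 :=
  step g hg h15 hrel H hsub st11 chk11 (by decide +kernel) (upto11 g hg h15 hrel H hsub)

theorem upto13 : Upto g data (QuotientGroup.mk 1 : G ⧸ H) 3328 :=
  step g hg h15 hrel H hsub st12 chk12 (by decide +kernel) (upto12 g hg h15 hrel H hsub)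

theorem upto14 : Upto g data (QuotientGroup.mk 1 : G ⧸ H) 3584 :=
  step g hg h15 hrel H hsub st13 chk13 (by decide +kernel) (upto13 g hg h15 hrel H hsub)

theorem upto15 : Upto g data (QuotientGroup.mk 1 : G ⧸ H) 3840 :=
  step g hg h15 hrel H hsub st14 chk14 (by decide +kernel) (upto14 g hg h15 hrel H hsub)

theorem upto16 : Upto g data (QuotientGroup.mk 1 : G ⧸ H) 4096 :=
  step g hg h15 hrel H hsub st15 chk15 (by decide +kernel) (upto15 g hg h15 hrel H hsub)

theorem upto17 : Upto g data (QuotientGroup.mk 1 : G ⧸ H) 4352 :=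
  step g hg h15 hrel H hsub st16 chk16 (by decide +kernel) (upto16 g hg h15 hrel H hsub)

theorem upto18 : Upto g data (QuotientGroup.mk 1 : G ⧸ H) 4608 :=
  step g hg h15 hrel H hsub st17 chk17 (by decide +kernel) (upto17 g hg h15 hrel H hsub)

theorem upto19 : Upto g data (QuotientGroup.mk 1 : G ⧸ H) 4864 :=
  step g hg h15 hrel H hsub st18 chk18 (by decide +kernel) (upto18 g hg h15 hrel H hsub)

theorem upto20 : Upto g data (QuotientGroup.mk 1 : G ⧸ H) 5120 :=
  step g hg h15 hrel H hsub st19 chk19 (by decide +kernel) (upto19 g hg h15 hrel H hsub)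

theorem upto21 : Upto g data (QuotientGroup.mk 1 : G ⧸ H) 5376 :=
  step g hg h15 hrel H hsub st20 chk20 (by decide +kernel) (upto20 g hg h15 hrel H hsub)

theorem upto22 : Upto g data (QuotientGroup.mk 1 : G ⧸ H) 5632 :=
  step g hg h15 hrel H hsub st21 chk21 (by decide +kernel) (upto21 g hg h15 hrel H hsub)

theorem upto23 : Upto g data (QuotientGroup.mk 1 : G ⧸ H) 5888 :=
  step g hg h15 hrel H hsub st22 chk22 (by decide +kernel) (upto22 g hg h15 hrel H hsub)

theorem upto24 : Upto g data (QuotientGroup.mk 1 : G ⧸ H) 6144 :=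
  step g hg h15 hrel H hsub st23 chk23 (by decide +kernel) (upto23 g hg h15 hrel H hsub)

theorem upto25 : Upto g data (QuotientGroup.mk 1 : G ⧸ H) 6400 :=
  step g hg h15 hrel H hsub st24 chk24 (by decide +kernel) (upto24 g hg h15 hrel H hsub)

theorem upto26 : Upto g data (QuotientGroup.mk 1 : G ⧸ H) 6656 :=
  step g hg h15 hrel H hsub st25 chk25 (by decide +kernel) (upto25 g hg h15 hrel H hsub)

theorem upto27 : Upto g data (QuotientGroup.mk 1 : G ⧸ H) 6912 :=
  step g hg h15 hrel H hsub st26 chk26 (by decide +kernel) (upto26 g hg h15 hrel H hsub)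

theorem upto28 : Upto g data (QuotientGroup.mk 1 : G ⧸ H) 7168 :=
  step g hg h15 hrel H hsub st27 chk27 (by decide +kernel) (upto27 g hg h15 hrel H hsub)

theorem upto29 : Upto g data (QuotientGroup.mk 1 : G ⧸ H) 7424 :=
  step g hg h15 hrel H hsub st28 chk28 (by decide +kernel) (upto28 g hg h15 hrel H hsub)

theorem upto30 : Upto g data (QuotientGroup.mk 1 : G ⧸ H) 7680 :=
  step g hg h15 hrel H hsub st29 chk29 (by decide +kernel) (upto29 g hg h15 hrel H hsub)

theorem upto31 : Upto g data (QuotientGroup.mk 1 : G ⧸ H) 7936 :=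
  step g hg h15 hrel H hsub st30 chk30 (by decide +kernel) (upto30 g hg h15 hrel H hsub)

theorem upto32 : Upto g data (QuotientGroup.mk 1 : G ⧸ H) 8192 :=
  step g hg h15 hrel H hsub st31 chk31 (by decide +kernel) (upto31 g hg h15 hrel H hsub)

theorem upto33 : Upto g data (QuotientGroup.mk 1 : G ⧸ H) 8448 :=
  step g hg h15 hrel H hsub st32 chk32 (by decide +kernel) (upto32 g hg h15 hrel H hsub)

theorem upto34 : Upto g data (QuotientGroup.mk 1 : G ⧸ H) 8704 :=
  step g hg h15 hrel H hsub st33 chk33 (by decide +kernel) (upto33 g hg h15 hrel H hsub)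

theorem upto35 : Upto g data (QuotientGroup.mk 1 : G ⧸ H) 8960 :=
  step g hg h15 hrel H hsub st34 chk34 (by decide +kernel) (upto34 g hg h15 hrel H hsub)

theorem upto36 : Upto g data (QuotientGroup.mk 1 : G ⧸ H) 9216 :=
  step g hg h15 hrel H hsub st35 chk35 (by decide +kernel) (upto35 g hg h15 hrel H hsub)

theorem upto37 : Upto g data (QuotientGroup.mk 1 : G ⧸ H) 9472 :=
  step g hg h15 hrel H hsub st36 chk36 (by decide +kernel) (upto36 g hg h15 hrel H hsub)

theorem upto38 : Upto g data (QuotientGroup.mk 1 : G ⧸ H) 9728 :=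
  step g hg h15 hrel H hsub st37 chk37 (by decide +kernel) (upto37 g hg h15 hrel H hsub)

theorem upto39 : Upto g data (QuotientGroup.mk 1 : G ⧸ H) 9984 :=
  step g hg h15 hrel H hsub st38 chk38 (by decide +kernel) (upto38 g hg h15 hrel H hsub)

theorem upto40 : Upto g data (QuotientGroup.mk 1 : G ⧸ H) 10240 :=
  step g hg h15 hrel H hsub st39 chk39 (by decide +kernel) (upto39 g hg h15 hrel H hsub)

theorem upto41 : Upto g data (QuotientGroup.mk 1 : G ⧸ H) 10496 :=
  step g hg h15 hrel H hsub st40 chk40 (by decide +kernel) (upto40 g hg h15 hrel H hsub)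

theorem upto42 : Upto g data (QuotientGroup.mk 1 : G ⧸ H) 10752 :=
  step g hg h15 hrel H hsub st41 chk41 (by decide +kernel) (upto41 g hg h15 hrel H hsub)

theorem upto43 : Upto g data (QuotientGroup.mk 1 : G ⧸ H) 11008 :=
  step g hg h15 hrel H hsub st42 chk42 (by decide +kernel) (upto42 g hg h15 hrel H hsub)

theorem upto44 : Upto g data (QuotientGroup.mk 1 : G ⧸ H) 11264 :=
  step g hg h15 hrel H hsub st43 chk43 (by decide +kernel) (upto43 g hg h15 hrel H hsub)

theorem upto45 : Upto g data (QuotientGroup.mk 1 : G ⧸ H) 11520 :=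
  step g hg h15 hrel H hsub st44 chk44 (by decide +kernel) (upto44 g hg h15 hrel H hsub)

theorem upto46 : Upto g data (QuotientGroup.mk 1 : G ⧸ H) 11776 :=
  step g hg h15 hrel H hsub st45 chk45 (by decide +kernel) (upto45 g hg h15 hrel H hsub)

theorem upto47 : Upto g data (QuotientGroup.mk 1 : G ⧸ H) 12032 :=
  step g hg h15 hrel H hsub st46 chk46 (by decide +kernel) (upto46 g hg h15 hrel H hsub)

theorem upto48 : Upto g data (QuotientGroup.mk 1 : G ⧸ H) 12288 :=
  step g hg h15 hrel H hsub st47 chk47 (by decide +kernel) (upto47 g hg h15 hrel H hsub)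

theorem upto49 : Upto g data (QuotientGroup.mk 1 : G ⧸ H) 12544 :=
  step g hg h15 hrel H hsub st48 chk48 (by decide +kernel) (upto48 g hg h15 hrel H hsub)

theorem upto50 : Upto g data (QuotientGroup.mk 1 : G ⧸ H) 12800 :=
  step g hg h15 hrel H hsub st49 chk49 (by decide +kernel) (upto49 g hg h15 hrel H hsub)

theorem upto51 : Upto g data (QuotientGroup.mk 1 : G ⧸ H) 13056 :=
  step g hg h15 hrel H hsub st50 chk50 (by decide +kernel) (upto50 g hg h15 hrel H hsub)

theorem upto52 : Upto g data (QuotientGroup.mk 1 : G ⧸ H) 13312 :=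
  step g hg h15 hrel H hsub st51 chk51 (by decide +kernel) (upto51 g hg h15 hrel H hsub)

theorem upto53 : Upto g data (QuotientGroup.mk 1 : G ⧸ H) 13568 :=
  step g hg h15 hrel H hsub st52 chk52 (by decide +kernel) (upto52 g hg h15 hrel H hsub)

theorem upto54 : Upto g data (QuotientGroup.mk 1 : G ⧸ H) 13824 :=
  step g hg h15 hrel H hsub st53 chk53 (by decide +kernel) (upto53 g hg h15 hrel H hsub)

theorem upto55 : Upto g data (QuotientGroup.mk 1 : G ⧸ H) 14080 :=
  step g hg h15 hrel H hsub st54 chk54 (by decide +kernel) (upto54 g hg h15 hrel H hsub)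

theorem upto56 : Upto g data (QuotientGroup.mk 1 : G ⧸ H) 14336 :=
  step g hg h15 hrel H hsub st55 chk55 (by decide +kernel) (upto55 g hg h15 hrel H hsub)

theorem upto57 : Upto g data (QuotientGroup.mk 1 : G ⧸ H) 14592 :=
  step g hg h15 hrel H hsub st56 chk56 (by decide +kernel) (upto56 g hg h15 hrel H hsub)

theorem upto58 : Upto g data (QuotientGroup.mk 1 : G ⧸ H) 14848 :=
  step g hg h15 hrel H hsub st57 chk57 (by decide +kernel) (upto57 g hg h15 hrel H hsub)

theorem upto59 : Upto g data (QuotientGroup.mk 1 : G ⧸ H) 15104 :=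
  step g hg h15 hrel H hsub st58 chk58 (by decide +kernel) (upto58 g hg h15 hrel H hsub)

theorem upto60 : Upto g data (QuotientGroup.mk 1 : G ⧸ H) 15360 :=
  step g hg h15 hrel H hsub st59 chk59 (by decide +kernel) (upto59 g hg h15 hrel H hsub)

theorem upto61 : Upto g data (QuotientGroup.mk 1 : G ⧸ H) 15616 :=
  step g hg h15 hrel H hsub st60 chk60 (by decide +kernel) (upto60 g hg h15 hrel H hsub)

theorem upto62 : Upto g data (QuotientGroup.mk 1 : G ⧸ H) 15872 :=
  step g hg h15 hrel H hsub st61 chk61 (by decide +kernel) (upto61 g hg h15 hrel H hsub)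

theorem upto63 : Upto g data (QuotientGroup.mk 1 : G ⧸ H) 16128 :=
  step g hg h15 hrel H hsub st62 chk62 (by decide +kernel) (upto62 g hg h15 hrel H hsub)

theorem upto64 : Upto g data (QuotientGroup.mk 1 : G ⧸ H) 16384 :=
  step g hg h15 hrel H hsub st63 chk63 (by decide +kernel) (upto63 g hg h15 hrel H hsub)

theorem upto65 : Upto g data (QuotientGroup.mk 1 : G ⧸ H) 16640 :=
  step g hg h15 hrel H hsub st64 chk64 (by decide +kernel) (upto64 g hg h15 hrel H hsub)

theorem upto66 : Upto g data (QuotientGroup.mk 1 : G ⧸ H) 16896 :=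
  step g hg h15 hrel H hsub st65 chk65 (by decide +kernel) (upto65 g hg h15 hrel H hsub)

theorem upto67 : Upto g data (QuotientGroup.mk 1 : G ⧸ H) 17152 :=
  step g hg h15 hrel H hsub st66 chk66 (by decide +kernel) (upto66 g hg h15 hrel H hsub)

theorem upto68 : Upto g data (QuotientGroup.mk 1 : G ⧸ H) 17408 :=
  step g hg h15 hrel H hsub st67 chk67 (by decide +kernel) (upto67 g hg h15 hrel H hsub)

theorem upto69 : Upto g data (QuotientGroup.mk 1 : G ⧸ H) 17664 :=
  step g hg h15 hrel H hsub st68 chk68 (by decide +kernel) (upto68 g hg h15 hrel H hsub)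

theorem upto70 : Upto g data (QuotientGroup.mk 1 : G ⧸ H) 17920 :=
  step g hg h15 hrel H hsub st69 chk69 (by decide +kernel) (upto69 g hg h15 hrel H hsub)

theorem upto71 : Upto g data (QuotientGroup.mk 1 : G ⧸ H) 18176 :=
  step g hg h15 hrel H hsub st70 chk70 (by decide +kernel) (upto70 g hg h15 hrel H hsub)

theorem upto72 : Upto g data (QuotientGroup.mk 1 : G ⧸ H) 18432 :=
  step g hg h15 hrel H hsub st71 chk71 (by decide +kernel) (upto71 g hg h15 hrel H hsub)

theorem upto73 : Upto g data (QuotientGroup.mk 1 : G ⧸ H) 18688 :=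
  step g hg h15 hrel H hsub st72 chk72 (by decide +kernel) (upto72 g hg h15 hrel H hsub)

theorem upto74 : Upto g data (QuotientGroup.mk 1 : G ⧸ H) 18944 :=
  step g hg h15 hrel H hsub st73 chk73 (by decide +kernel) (upto73 g hg h15 hrel H hsub)

theorem upto75 : Upto g data (QuotientGroup.mk 1 : G ⧸ H) 19200 :=
  step g hg h15 hrel H hsub st74 chk74 (by decide +kernel) (upto74 g hg h15 hrel H hsub)

theorem upto76 : Upto g data (QuotientGroup.mk 1 : G ⧸ H) 19456 :=
  step g hg h15 hrel H hsub st75 chk75 (by decide +kernel) (upto75 g hg h15 hrel H hsub)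

theorem upto77 : Upto g data (QuotientGroup.mk 1 : G ⧸ H) 19712 :=
  step g hg h15 hrel H hsub st76 chk76 (by decide +kernel) (upto76 g hg h15 hrel H hsub)

theorem upto78 : Upto g data (QuotientGroup.mk 1 : G ⧸ H) 19968 :=
  step g hg h15 hrel H hsub st77 chk77 (by decide +kernel) (upto77 g hg h15 hrel H hsub)

theorem upto79 : Upto g data (QuotientGroup.mk 1 : G ⧸ H) 20224 :=
  step g hg h15 hrel H hsub st78 chk78 (by decide +kernel) (upto78 g hg h15 hrel H hsub)

theorem upto80 : Upto g data (QuotientGroup.mk 1 : G ⧸ H) 20480 :=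
  step g hg h15 hrel H hsub st79 chk79 (by decide +kernel) (upto79 g hg h15 hrel H hsub)

theorem upto81 : Upto g data (QuotientGroup.mk 1 : G ⧸ H) 20736 :=
  step g hg h15 hrel H hsub st80 chk80 (by decide +kernel) (upto80 g hg h15 hrel H hsub)

theorem upto82 : Upto g data (QuotientGroup.mk 1 : G ⧸ H) 20992 :=
  step g hg h15 hrel H hsub st81 chk81 (by decide +kernel) (upto81 g hg h15 hrel H hsub)

theorem upto83 : Upto g data (QuotientGroup.mk 1 : G ⧸ H) 21248 :=
  step g hg h15 hrel H hsub st82 chk82 (by decide +kernel) (upto82 g hg h15 hrel H hsub)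

theorem upto84 : Upto g data (QuotientGroup.mk 1 : G ⧸ H) 21504 :=
  step g hg h15 hrel H hsub st83 chk83 (by decide +kernel) (upto83 g hg h15 hrel H hsub)

theorem upto85 : Upto g data (QuotientGroup.mk 1 : G ⧸ H) 21760 :=
  step g hg h15 hrel H hsub st84 chk84 (by decide +kernel) (upto84 g hg h15 hrel H hsub)

theorem upto86 : Upto g data (QuotientGroup.mk 1 : G ⧸ H) 22016 :=
  step g hg h15 hrel H hsub st85 chk85 (by decide +kernel) (upto85 g hg h15 hrel H hsub)

theorem upto87 : Upto g data (QuotientGroup.mk 1 : G ⧸ H) 22272 :=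
  step g hg h15 hrel H hsub st86 chk86 (by decide +kernel) (upto86 g hg h15 hrel H hsub)

theorem upto88 : Upto g data (QuotientGroup.mk 1 : G ⧸ H) 22528 :=
  step g hg h15 hrel H hsub st87 chk87 (by decide +kernel) (upto87 g hg h15 hrel H hsub)

theorem upto89 : Upto g data (QuotientGroup.mk 1 : G ⧸ H) 22784 :=
  step g hg h15 hrel H hsub st88 chk88 (by decide +kernel) (upto88 g hg h15 hrel H hsub)

theorem upto90 : Upto g data (QuotientGroup.mk 1 : G ⧸ H) 23040 :=
  step g hg h15 hrel H hsub st89 chk89 (by decide +kernel) (upto89 g hg h15 hrel H hsub)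

theorem upto91 : Upto g data (QuotientGroup.mk 1 : G ⧸ H) 23296 :=
  step g hg h15 hrel H hsub st90 chk90 (by decide +kernel) (upto90 g hg h15 hrel H hsub)

theorem upto92 : Upto g data (QuotientGroup.mk 1 : G ⧸ H) 23552 :=
  step g hg h15 hrel H hsub st91 chk91 (by decide +kernel) (upto91 g hg h15 hrel H hsub)

theorem upto93 : Upto g data (QuotientGroup.mk 1 : G ⧸ H) 23808 :=
  step g hg h15 hrel H hsub st92 chk92 (by decide +kernel) (upto92 g hg h15 hrel H hsub)

theorem upto94 : Upto g data (QuotientGroup.mk 1 : G ⧸ H) 24064 :=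
  step g hg h15 hrel H hsub st93 chk93 (by decide +kernel) (upto93 g hg h15 hrel H hsub)

theorem upto95 : Upto g data (QuotientGroup.mk 1 : G ⧸ H) 24320 :=
  step g hg h15 hrel H hsub st94 chk94 (by decide +kernel) (upto94 g hg h15 hrel H hsub)

theorem upto96 : Upto g data (QuotientGroup.mk 1 : G ⧸ H) 24576 :=
  step g hg h15 hrel H hsub st95 chk95 (by decide +kernel) (upto95 g hg h15 hrel H hsub)

theorem upto97 : Upto g data (QuotientGroup.mk 1 : G ⧸ H) 24579 :=
  step g hg h15 hrel H hsub st96 chk96 (by decide +kernel) (upto96 g hg h15 hrel H hsub)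

theorem mem : (goal.map g).reverse.prod ∈ H :=
  mem_of_act g H goal (chkGoal_sound g hg h15 data _ _ (upto97 g hg h15 hrel H hsub) goal _ _ goal_ok)

end Cfsg.Agent.Fi23Mult.ZH
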