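import Cfsg.Agent.Lib.Fi23Mult.Lifts
import Cfsg.Agent.Lib.Fi23Mult.Weyl
import Cfsg.Agent.Lib.Fi23Mult.ZH
import Cfsg.Agent.Lib.Fi23Mult.KL
import Cfsg.Agent.Lib.SchurSplit.Core
import Cfsg.Agent.Lib.Enum.Fi23Bound

/-!
# The Schur multiplier of the presented Fischer group Fi23 is trivial
-/

set_option autoImplicit false
set_option maxRecDepth 10000

namespace Cfsg.Agent.Fi23Mult

open Cfsg.Spor Cfsg.Agent.Enum

/-- Generators of the subgroup used in the first enumeration. -/
def genZ : List Fi23.Gen := [.b, .c, .d, .e, .f, .g, .j, .h, .i]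

/-- Generators used in the second enumeration. -/
def genK : List Fi23.Gen := [.a, .b, .c, .d, .e, .f, .g, .j, .h]

/-- The E8 subdiagram in Bourbaki numbering. -/
def gen8 : List Fi23.Gen := [.b, .h, .c, .d, .e, .f, .g, .j]

/-- The generator attached to a simple reflection. -/
def gen8f (i : Fin 8) : Fi23.Gen := gen8.getD i.val .b

theorem gen8_check : ∀ i j : Fin 8,
    (coxLabel Fi23.edges (gen8f i) (gen8f j) == CoxeterMatrix.E₈.M i j) = true := by
  decide +kernel

theorem gen8_label (i j : Fin 8) : coxLabel Fi23.edges (gen8f i) (gen8f j) = CoxeterMatrix.E₈ i j :=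
  beq_iff_eq.1 (gen8_check i j)

/-- Coxeter words on a list of generators. -/
def coxWords (L : List Fi23.Gen) : List (List ℕ) :=
  (List.range L.length).flatMap fun x => (List.range L.length).map fun z =>
    (List.replicate (coxLabel Fi23.edges (L.getD x .a) (L.getD z .a)) [x, z]).flatten

/-- Words trivial in any group. -/
def trivWords : List (List ℕ) := [] :: ((List.range 11).map fun x => [inv9 x, x])

/-- The central letters. -/
def centWords : List (List ℕ) := (List.range 9).map fun x => [x, 10, x, 9]

/-- The rotated spider relator, read backwards. -/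
def spiderWord : List ℕ := 10 :: (List.replicate 10 [2, 7, 8, 2, 1, 0, 2, 3, 4]).flatten

/-- The E7 relator. -/
def sevenWord : List ℕ := (List.replicate 9 [0, 1, 2, 3, 4, 5, 8]).flatten

theorem zh_rels : ZH.rels.all (fun r =>
    decide (r.reverse ∈ coxWords genZ ++ trivWords ++ centWords ++ [spiderWord])) = true := by
  decide +kernel

theorem kl_rels : KL.rels.all (fun r =>
    decide (r.reverse ∈ coxWords genK ++ trivWords ++ [sevenWord] ++ [sevenWord.reverse])) = true := by
  decide +kernel

section

variable {E : Type} [Group E] {y : Fi23.Gen → E} (hy : Exact y)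
include hy

theorem label_pow (x z : Fi23.Gen) : (y x * y z) ^ coxLabel Fi23.edges x z = 1 := by
  rcases label_cases x z with rfl | h | h
  · simp [coxLabel, hy.sq]
  · rw [show coxLabel Fi23.edges x z = 3 by simpa [adj] using h]
    calc (y x * y z) ^ 3 = (y x * y z * y x) * (y z * y x * y z) := by rw [pow_succ, pow_two]; group
      _ = (y z * y x * y z) * (y z * y x * y z) := by rw [hy.braid x z h]
      _ = y z * y x * (y z * y z) * y x * y z := by group
      _ = 1 := by rw [hy.sq, mul_one, mul_assoc (y z) (y x), hy.sq, mul_one, hy.sq]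
  · rw [show coxLabel Fi23.edges x z = 2 by simpa [apart] using h, (hy.comm x z h).mul_pow, pow_two,
      pow_two, hy.sq, hy.sq, mul_one]

theorem cox_words {g : ℕ → E} {L : List Fi23.Gen} (hg : ∀ x < L.length, g x = y (L.getD x .a)) :
    ∀ w ∈ coxWords L, (w.map g).prod = 1 := by
  intro w hw
  simp only [coxWords, List.mem_flatMap, List.mem_map, List.mem_range] at hw
  obtain ⟨x, hx, z, hz, rfl⟩ := hw
  rw [Pres.prod_replicate_flatten, hg x hx, hg z hz]
  exact label_pow hy _ _

omit hy in
theorem triv_words {g : ℕ → E} (hg : ∀ x, g (inv9 x) * g x = 1) :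
    ∀ w ∈ trivWords, (w.map g).prod = 1 := by
  intro w hw
  simp only [trivWords, List.mem_cons, List.mem_map] at hw
  rcases hw with rfl | ⟨x, -, rfl⟩
  · simp
  · simpa using hg x

/-- Letters of the second enumeration. -/
def gKfun (y : Fi23.Gen → E) (x : ℕ) : E := if x < 9 then y (genK.getD x .a) else 1

theorem gK_inv (x : ℕ) : gKfun y (inv9 x) * gKfun y x = 1 := by
  by_cases h9 : x = 9
  · subst h9; simp [gKfun, show inv9 9 = 10 from rfl]
  by_cases h10 : x = 10
  · subst h10; simp [gKfun, show inv9 10 = 9 from rfl]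
  have e : inv9 x = x := by
    simp only [inv9]
    cases e1 : Nat.beq x 9 with
    | true => exact absurd (Nat.eq_of_beq_eq_true e1) h9
    | false =>
      cases e2 : Nat.beq x 10 with
      | true => exact absurd (Nat.eq_of_beq_eq_true e2) h10
      | false => rfl
  rw [e, gKfun]
  split <;> simp [hy.sq]

/-- Letters of the first enumeration. -/
def gZfun (y : Fi23.Gen → E) (z : E) (x : ℕ) : E :=
  if x < 9 then y (genZ.getD x .a) else if x = 9 then z else if x = 10 then z⁻¹ else 1

theorem gZ_inv (z : E) (x : ℕ) : gZfun y z (inv9 x) * gZfun y z x = 1 := by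
  by_cases h9 : x = 9
  · subst h9; simp [gZfun, show inv9 9 = 10 from rfl]
  by_cases h10 : x = 10
  · subst h10; simp [gZfun, show inv9 10 = 9 from rfl]
  have e : inv9 x = x := by
    simp only [inv9]
    cases e1 : Nat.beq x 9 with
    | true => exact absurd (Nat.eq_of_beq_eq_true e1) h9
    | false =>
      cases e2 : Nat.beq x 10 with
      | true => exact absurd (Nat.eq_of_beq_eq_true e2) h10
      | false => rfl
  rw [e, gZfun]
  split
  · exact hy.sq _
  · simp

theorem gen8_liftable : CoxeterMatrix.E₈.IsLiftable fun i => y (gen8f i) := fun i j =>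
  gen8_label i j ▸ label_pow hy _ _

/-- The map from the Coxeter group of type E8. -/
noncomputable def toE : W8 →* E :=
  CoxeterMatrix.E₈.toCoxeterSystem.lift ⟨fun i => y (gen8f i), gen8_liftable hy⟩

theorem toE_simple (i : Fin 8) : toE hy (CoxeterMatrix.E₈.simple i) = y (gen8f i) := by
  rw [← CoxeterMatrix.toCoxeterSystem_simple CoxeterMatrix.E₈]
  exact CoxeterMatrix.E₈.toCoxeterSystem.lift_apply_simple _ i

/-- The numbering of the simple reflections in the second enumeration. -/
def toK (i : Fin 8) : ℕ := [1, 8, 2, 3, 4, 5, 6, 7].getD i.val 0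

omit hy in
theorem goal_eq : KL.goal.reverse = uL.map toK := by decide +kernel

omit hy in
theorem genK_toK : ∀ i : Fin 8, toK i < 9 ∧ genK.getD (toK i) .a = gen8f i := by decide +kernel

omit hy in
theorem kl_subs : ∀ r ∈ KL.subs, ∃ i : Fin 8, i ≠ 7 ∧ r = [toK i] := by decide +kernel

theorem uW_mem : toE hy uW ∈ W7.map (toE hy) := by
  have hgk : ∀ i : Fin 8, gKfun y (toK i) = toE hy (CoxeterMatrix.E₈.simple i) := fun i => by
    rw [toE_simple, gKfun, if_pos (genK_toK i).1, (genK_toK i).2]
  have h := KL.mem (gKfun y) (gK_inv hy) (by simp [gKfun]) ?_ (W7.map (toE hy)) ?_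
  · rw [← List.map_reverse, goal_eq, List.map_map] at h
    rw [uW, map_list_prod, List.map_map]
    rw [show List.map (⇑(toE hy) ∘ CoxeterMatrix.E₈.simple) uL = List.map (gKfun y ∘ toK) uL from
      List.map_congr_left fun i _ => (hgk i).symm]
    exact h
  · intro r hr
    have h1 := of_decide_eq_true (List.all_eq_true.1 kl_rels r hr)
    rw [← List.map_reverse]
    simp only [List.mem_append, List.mem_singleton] at h1
    have h7 : (sevenWord.map (gKfun y)).prod = 1 := by
      rw [sevenWord, List.map_flatten, List.map_replicate, List.prod_flatten, List.map_replicate,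
        List.prod_replicate]
      exact hy.seven
    rcases h1 with ((h1 | h1) | h1) | h1
    · exact cox_words hy (fun x hx => if_pos hx) _ h1
    · exact triv_words (gK_inv hy) _ h1
    · rw [h1, h7]
    · rw [h1, List.map_reverse]
      have := act_invWord (gKfun y) (gK_inv hy) sevenWord (1 : E)
      rw [Data.act_eq, Data.act_eq, show invWord sevenWord = sevenWord.reverse by decide +kernel,
        List.map_reverse, List.reverse_reverse, h7, one_smul] at this
      simpa using this
  · intro r hr
    obtain ⟨i, hi, rfl⟩ := kl_subs r hr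
    refine ⟨CoxeterMatrix.E₈.simple i, Subgroup.subset_closure ⟨i, hi, rfl⟩, ?_⟩
    simp [hgk i]

omit hy in
theorem zh_subs : ∀ r ∈ ZH.subs, ∃ i : Fin 8, ∃ x < 9, r = [x] ∧ genZ.getD x .a = gen8f i := by
  decide +kernel

/-- The value of the spider word. -/
def spiderVal (y : Fi23.Gen → E) : E := ((sL.map y).prod) ^ 10

theorem spider_mem (hz : spiderVal y ∈ Subgroup.center E) : spiderVal y ∈ (toE hy).range := by
  set z := spiderVal y with hzd
  have h := ZH.mem (gZfun y z) (gZ_inv hy z) (by simp [gZfun]) ?_ (toE hy).range ?_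
  · simpa [ZH.goal, gZfun] using h
  · intro r hr
    have h1 := of_decide_eq_true (List.all_eq_true.1 zh_rels r hr)
    rw [← List.map_reverse]
    simp only [List.mem_append, List.mem_singleton] at h1
    rcases h1 with ((h1 | h1) | h1) | h1
    · exact cox_words hy (fun x hx => if_pos hx) _ h1
    · exact triv_words (gZ_inv hy z) _ h1
    · simp only [centWords, List.mem_map, List.mem_range] at h1
      obtain ⟨x, hx, hxe⟩ := h1
      rw [← hxe]
      have hzz : z⁻¹ ∈ Subgroup.center E := inv_mem hz
      simp only [gZfun, List.map_cons, List.map_nil, List.prod_cons, List.prod_nil, if_pos hx]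
      norm_num
      have hsq := hy.sq (genZ[x]?.getD .a)
      generalize y (genZ[x]?.getD .a) = t at hsq ⊢
      rw [← mul_assoc, ← mul_assoc, (SchurOEight.central_comm hzz t).eq, mul_assoc (z⁻¹) t t, hsq, mul_one, inv_mul_cancel]
    · rw [h1, spiderWord, List.map_cons, List.prod_cons, List.map_flatten, List.map_replicate,
        List.prod_flatten, List.map_replicate, List.prod_replicate]
      have hrot : (([2, 7, 8, 2, 1, 0, 2, 3, 4] : List ℕ).map (gZfun y z)).prod =
          ([Fi23.Gen.d, .c, .b, .d, .e, .f].map y).prod⁻¹ * (sL.map y).prod *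
            ([Fi23.Gen.d, .c, .b, .d, .e, .f].map y).prod⁻¹⁻¹ := by
        simp [gZfun, genZ, sL, List.getD]
        group
      rw [hrot, conj_pow, ← spiderVal.eq_1 y, ← hzd,
        (SchurOEight.central_comm hz _).eq, mul_inv_cancel_right]
      simp [gZfun]
  · intro r hr
    obtain ⟨i, x, hx, rfl, hi⟩ := zh_subs r hr
    refine ⟨CoxeterMatrix.E₈.simple i, ?_⟩
    rw [toE_simple]
    rw [List.getD_eq_getElem?_getD] at hi
    simp [gZfun, hx, hi]

end

theorem gen_eq_one_of_wp {f : W8 →* Fi23} (hf : ∀ i, f (CoxeterMatrix.E₈.simple i) = gen (gen8f i))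
    (h : Cfsg.Agent.SchurOEight.WP ≤ f.ker) (x : Fi23.Gen) : gen x = 1 := by
  have hp : ∀ i : Fin 8, gen (gen8f i) = gen .b := fun i => by
    have h1 := h (SchurOEight.pr i 0).2
    rw [MonoidHom.mem_ker] at h1
    simp only [SchurOEight.pr, map_mul, hf] at h1
    rw [mul_eq_one_iff_eq_inv, inv_eq_of_mul_eq_one_right (gen_sq _)] at h1
    exact h1
  have hb : ∀ k, k ∈ gen8 → gen k = gen .b := fun k hk => by
    simp only [gen8, List.mem_cons, List.not_mem_nil, or_false] at hk
    rcases hk with rfl | rfl | rfl | rfl | rfl | rfl | rfl | rfl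
    exacts [hp 0, hp 1, hp 2, hp 3, hp 4, hp 5, hp 6, hp 7]
  have key : ∀ p q r : Fi23.Gen, adj p q = true → apart p r = true → gen q = gen r → gen p = gen q := by
    intro p q r h1 h2 he
    have hbr := gen_braid h1
    have hcm := gen_comm h2
    rw [← he] at hcm
    rw [hcm, mul_assoc, gen_sq, mul_one, mul_assoc, hcm, ← mul_assoc, gen_sq, one_mul] at hbr
    exact hbr.symm
  have ha : gen .a = gen .b :=
    key .a .b .c (by decide) (by decide) (hb .c (by decide)).symm
  have hi : gen .i = gen .b :=
    (key .i .h .c (by decide) (by decide) ((hb .h (by decide)).trans (hb .c (by decide)).symm)).trans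
      (hb .h (by decide))
  have hall : ∀ k, gen k = gen .b := fun k => by
    cases k
    case a => exact ha
    case i => exact hi
    all_goals exact hb _ (by decide)
  have h7 := gen_seven
  simp only [wL, List.map_cons, List.map_nil, List.prod_cons, List.prod_nil, mul_one, hall] at h7
  have h2 : gen .b ^ 2 = 1 := by rw [pow_two, gen_sq]
  have h63 : gen .b ^ 63 = 1 := by
    rw [← h7, show 63 = 7 * 9 from rfl, pow_mul]
    congr 1
  rw [hall x]
  calc gen .b = gen .b ^ 63 * ((gen .b ^ 2) ^ 31)⁻¹ := by group
    _ = 1 := by rw [h63, h2, one_pow, inv_one, mul_one]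

theorem noExt (p : ℕ) (hp : p.Prime) : SchurSplit.NoExt Fi23 p := by
  intro E _ _ π hπ hc hcard hd
  obtain ⟨y, hy, hyπ⟩ := exists_exact π hπ hc
  -- a section
  obtain ⟨s, hs⟩ : ∃ s : Fi23 →* E, π.comp s = MonoidHom.id Fi23 := by
    by_cases htriv : ∀ x, gen x = 1
    · exact ⟨1, PresentedGroup.ext fun x => by simpa using (htriv x).symm⟩
    have hzπ : π (spiderVal y) = 1 := by
      rw [spiderVal, map_pow, map_list_prod, List.map_map, show (π : E → Fi23) ∘ y = gen from funext hyπ,
        gen_spider]
    have hz : spiderVal y ∈ Subgroup.center E := hc hzπ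
    obtain ⟨v, hv⟩ := spider_mem hy hz
    have hne : ¬ Cfsg.Agent.SchurOEight.WP ≤ (π.comp (toE hy)).ker := fun h =>
      htriv (gen_eq_one_of_wp (fun i => by rw [MonoidHom.comp_apply, toE_simple, hyπ]) h)
    have hone : spiderVal y = 1 := by
      rw [← hv]
      exact ker_trivial (toE hy) π hne (uW_mem hy) v (by rw [hv, hzπ])
    have hrel : ∀ r ∈ coxRelators Fi23.edges ∪ {r | r ∈ Fi23.extra}, FreeGroup.lift y r = 1 := by
      rintro r (⟨a, -, b, -, rfl⟩ | hr)
      · rw [map_pow, map_mul, FreeGroup.lift_apply_of, FreeGroup.lift_apply_of]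
        exact label_pow hy a b
      · simp only [Fi23.extra, Set.mem_setOf_eq, List.mem_cons, List.not_mem_nil, or_false] at hr
        rcases hr with rfl | rfl
        · simpa [spiderVal, sL, mul_assoc] using hone
        · simpa [wL, mul_assoc] using hy.seven
    exact ⟨PresentedGroup.toGroup hrel, PresentedGroup.ext fun x => by
      rw [MonoidHom.comp_apply, PresentedGroup.toGroup.of, hyπ, MonoidHom.id_apply]⟩
  have hs' : ∀ g, π (s g) = g := fun g => DFunLike.congr_fun hs g
  have hle : commutator E ≤ s.range := by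
    rw [commutator_def, Subgroup.commutator_le]
    intro a _ b _
    rw [comm_congr π hc (a' := s (π a)) (b' := s (π b)) (hs' _).symm (hs' _).symm, ← map_commutatorElement]
    exact ⟨_, rfl⟩
  have hbot : π.ker = ⊥ := (Subgroup.eq_bot_iff_forall _).2 fun k hk => by
    obtain ⟨g, rfl⟩ := hle (hd hk)
    rw [MonoidHom.mem_ker, hs'] at hk
    rw [hk, map_one]
  rw [hbot, Subgroup.card_bot] at hcard
  exact hp.one_lt.ne hcard

theorem hasCyclicSchurMultiplier : Cfsg.HasCyclicSchurMultiplier Fi23 1 := by
  haveI : Finite Fi23 := Cfsg.Agent.Enum.Fi23M.finite_Fi23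
  exact SchurSplit.trivial_of_noExt noExt

end Cfsg.Agent.Fi23Mult
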